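import Mathlib

/-!
# Counting classes of elements with prescribed prime divisors of the order
-/

set_option autoImplicit false
set_option linter.unusedSectionVars false
set_option linter.style.haveILetI false

namespace CfsgLib.Char.PiClasses

open Subgroup

universe u

/-- All prime divisors of `n` lie in `S`. -/
def IsPrimesIn (S : Finset ℕ) (n : ℕ) : Prop := ∀ q : ℕ, q.Prime → q ∣ n → q ∈ S

/-- The classes of elements whose order has all its prime divisors in `S`. -/
abbrev SCls (S : Finset ℕ) (G : Type u) [Group G] : Type u :=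
  {C : ConjClasses G // ∀ g : G, ConjClasses.mk g = C → IsPrimesIn S (orderOf g)}

/-- The number of classes of elements whose order has all its prime divisors in `S`. -/
noncomputable def kS (S : Finset ℕ) (G : Type u) [Group G] : ℕ := Nat.card (SCls S G)

/-- The part of the order of `G` for the primes in `S`. -/
noncomputable def mS (S : Finset ℕ) (G : Type u) [Group G] : ℕ :=
  ∏ q ∈ S, q ^ (Nat.card G).factorization q

theorem orderOf_eq_of_mk_eq {G : Type u} [Group G] {g h : G}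
    (e : ConjClasses.mk g = ConjClasses.mk h) : orderOf g = orderOf h := by
  obtain ⟨c, rfl⟩ := isConj_iff.1 (ConjClasses.mk_eq_mk_iff_isConj.1 e)
  exact ((MulAut.conj c).orderOf_eq g).symm

/-- The class of an element with suitable order. -/
noncomputable def SCls.mk' {S : Finset ℕ} {G : Type u} [Group G] (g : G)
    (hg : IsPrimesIn S (orderOf g)) : SCls S G :=
  ⟨ConjClasses.mk g, fun _ hh => orderOf_eq_of_mk_eq hh ▸ hg⟩

/-- A representative of a class. -/
noncomputable def crep {G : Type u} [Group G] (C : ConjClasses G) : G :=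
  (ConjClasses.mk_surjective C).choose

theorem mk_crep {G : Type u} [Group G] (C : ConjClasses G) : ConjClasses.mk (crep C) = C :=
  (ConjClasses.mk_surjective C).choose_spec

theorem crep_primesIn {S : Finset ℕ} {G : Type u} [Group G] (C : SCls S G) :
    IsPrimesIn S (orderOf (crep C.1)) := C.2 _ (mk_crep _)

variable {G : Type u} [Group G] [Finite G]

/-- Split off the `r`-part of an element. -/
theorem exists_decomp (g : G) {r : ℕ} (hr : r.Prime) : ∃ a b : ℕ, g ^ a * g ^ b = g ∧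
    orderOf (g ^ a) ∣ r ^ (orderOf g).factorization r ∧
    orderOf (g ^ b) ∣ orderOf g / r ^ (orderOf g).factorization r := by
  set n := orderOf g with hn
  have hn0 : n ≠ 0 := (orderOf_pos g).ne'
  set A := r ^ n.factorization r
  set B := n / A
  have hAB : A * B = n := Nat.ordProj_mul_ordCompl_eq_self n r
  have hc : A.Coprime B := (Nat.coprime_ordCompl hr hn0).pow_left _
  obtain ⟨a, ha1, ha2⟩ := Nat.chineseRemainder hc 1 0
  obtain ⟨b, hb1, hb2⟩ := Nat.chineseRemainder hc 0 1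
  refine ⟨a, b, ?_, ?_, ?_⟩
  · rw [← pow_add]
    conv_rhs => rw [← pow_one g]
    rw [pow_eq_pow_iff_modEq, ← hn, ← hAB, ← Nat.modEq_and_modEq_iff_modEq_mul hc]
    exact ⟨by simpa using ha1.add hb1, by simpa using ha2.add hb2⟩
  · rw [orderOf_dvd_iff_pow_eq_one, ← pow_mul, ← orderOf_dvd_iff_pow_eq_one, ← hn, ← hAB,
      mul_comm a A]
    exact mul_dvd_mul_left A (Nat.modEq_zero_iff_dvd.1 ha2)
  · rw [orderOf_dvd_iff_pow_eq_one, ← pow_mul, ← orderOf_dvd_iff_pow_eq_one, ← hn, ← hAB]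
    exact mul_dvd_mul_right (Nat.modEq_zero_iff_dvd.1 hb1) B

theorem primesIn_singleton_of_dvd {r n k : ℕ} (hr : r.Prime) (h : n ∣ r ^ k) :
    IsPrimesIn {r} n := fun q hq hqn =>
  Finset.mem_singleton.2 ((Nat.prime_dvd_prime_iff_eq hq hr).1 (hq.dvd_of_dvd_pow (hqn.trans h)))

theorem isPGroup_of_primesIn {r : ℕ} (hr : r.Prime) {g : G} (h : IsPrimesIn {r} (orderOf g)) :
    IsPGroup r (zpowers g) := by
  refine IsPGroup.of_card (n := (orderOf g).primeFactorsList.length) ?_
  rw [Nat.card_zpowers]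
  exact Nat.eq_prime_pow_of_unique_prime_dvd (orderOf_pos g).ne'
    fun hq hqn => Finset.mem_singleton.1 (h _ hq hqn)

theorem primesIn_of_mem_isPGroup {r : ℕ} (hr : r.Prime) {H : Subgroup G} (hH : IsPGroup r H)
    {g : G} (hg : g ∈ H) : IsPrimesIn {r} (orderOf g) := by
  haveI := Fact.mk hr
  obtain ⟨k, hk⟩ := (IsPGroup.iff_orderOf.1 hH) ⟨g, hg⟩
  rw [Subgroup.orderOf_mk] at hk
  exact primesIn_singleton_of_dvd hr (k := k) (hk ▸ dvd_rfl)

theorem kS_empty : kS (∅ : Finset ℕ) G = 1 := by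
  have h1 : IsPrimesIn (∅ : Finset ℕ) (orderOf (1 : G)) := fun q hq h => by
    rw [orderOf_one] at h
    exact absurd (Nat.eq_one_of_dvd_one h) hq.one_lt.ne'
  refine Nat.card_eq_one_iff_unique.2 ⟨⟨fun C D => ?_⟩, ⟨SCls.mk' 1 h1⟩⟩
  have key : ∀ C : SCls (∅ : Finset ℕ) G, crep C.1 = 1 := fun C => by
    by_contra hne
    obtain ⟨q, hq, hqd⟩ := Nat.exists_prime_and_dvd (mt orderOf_eq_one_iff.1 hne)
    simpa using crep_primesIn C q hq hqd
  exact Subtype.ext (by rw [← mk_crep C.1, ← mk_crep D.1, key, key])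

/-- The number of classes is bounded by a sum over the classes of elements of `r`-power order. -/
theorem kS_insert_le {σ : Finset ℕ} {r : ℕ} (hr : r.Prime) [Fintype (SCls {r} G)] :
    kS (insert r σ) G ≤ ∑ C : SCls {r} G, kS σ (centralizer ({crep C.1} : Set G)) := by
  unfold kS
  rw [← Nat.card_sigma]
  have hord : ∀ (C : SCls {r} G) (D : SCls σ (centralizer ({crep C.1} : Set G))),
      IsPrimesIn (insert r σ) (orderOf (crep C.1 * (crep D.1).val)) := fun C D q hq hqd => by
    have hc : Commute (crep C.1) (crep D.1).val :=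
      Subgroup.mem_centralizer_iff.1 (crep D.1).2 _ rfl
    rcases (Nat.Prime.dvd_mul hq).1 ((hqd.trans hc.orderOf_mul_dvd_lcm).trans
      (Nat.lcm_dvd_mul _ _)) with h | h
    · exact Finset.mem_insert.2 (Or.inl (Finset.mem_singleton.1 (crep_primesIn C q hq h)))
    · rw [Subgroup.orderOf_coe] at h
      exact Finset.mem_insert_of_mem (crep_primesIn D q hq h)
  refine Nat.card_le_card_of_surjective
    (fun p : Σ C : SCls {r} G, SCls σ (centralizer ({crep C.1} : Set G)) =>
      SCls.mk' (crep p.1.1 * (crep p.2.1).val) (hord p.1 p.2)) fun E => ?_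
  obtain ⟨a, b, hab, ha, hb⟩ := exists_decomp (crep E.1) hr
  let C : SCls {r} G := SCls.mk' (crep E.1 ^ a) (primesIn_singleton_of_dvd hr ha)
  obtain ⟨c, hc⟩ := isConj_iff.1 (ConjClasses.mk_eq_mk_iff_isConj.1
    (mk_crep C.1).symm : IsConj (crep E.1 ^ a) (crep C.1))
  have hy : c * crep E.1 ^ b * c⁻¹ ∈ centralizer ({crep C.1} : Set G) := by
    rw [Subgroup.mem_centralizer_singleton_iff, ← hc]
    exact ((Commute.pow_pow (Commute.refl (crep E.1)) b a).map (MulAut.conj c).toMonoidHom)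
  have hyo : IsPrimesIn σ (orderOf (⟨_, hy⟩ : centralizer ({crep C.1} : Set G))) :=
      fun q hq hqd => by
    rw [Subgroup.orderOf_mk, show c * crep E.1 ^ b * c⁻¹ = MulAut.conj c (crep E.1 ^ b) from rfl,
      MulEquiv.orderOf_eq] at hqd
    have h1 := crep_primesIn E q hq (hqd.trans (orderOf_pow_dvd b))
    rcases Finset.mem_insert.1 h1 with rfl | h1
    · exact absurd (hqd.trans hb) (Nat.not_dvd_ordCompl hq (orderOf_pos _).ne')
    · exact h1
  refine ⟨⟨C, SCls.mk' ⟨_, hy⟩ hyo⟩, Subtype.ext ?_⟩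
  show ConjClasses.mk (crep C.1 * (crep (ConjClasses.mk
    (⟨_, hy⟩ : centralizer ({crep C.1} : Set G)))).val) = E.1
  set y₀ : centralizer ({crep C.1} : Set G) := ⟨_, hy⟩
  obtain ⟨d, hd⟩ := isConj_iff.1 (ConjClasses.mk_eq_mk_iff_isConj.1
    (mk_crep (ConjClasses.mk y₀)).symm : IsConj y₀ (crep (ConjClasses.mk y₀)))
  conv_rhs => rw [← mk_crep E.1]
  rw [ConjClasses.mk_eq_mk_iff_isConj, isConj_comm, isConj_iff]
  refine ⟨(d : G) * c, ?_⟩
  have hd2 : (d : G) * crep C.1 = crep C.1 * (d : G) :=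
    (Subgroup.mem_centralizer_singleton_iff.1 d.2)
  rw [← hd, Subgroup.coe_mul, Subgroup.coe_mul, Subgroup.coe_inv]
  show (d : G) * c * crep E.1 * ((d : G) * c)⁻¹ =
    crep C.1 * ((d : G) * (c * crep E.1 ^ b * c⁻¹) * (d : G)⁻¹)
  calc (d : G) * c * crep E.1 * ((d : G) * c)⁻¹
      = (d : G) * c * (crep E.1 ^ a * crep E.1 ^ b) * ((d : G) * c)⁻¹ := by rw [hab]
    _ = (d : G) * (c * crep E.1 ^ a * c⁻¹) * (c * crep E.1 ^ b * c⁻¹) * (d : G)⁻¹ := by group
    _ = (d : G) * crep C.1 * (c * crep E.1 ^ b * c⁻¹) * (d : G)⁻¹ := by rw [hc]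
    _ = crep C.1 * ((d : G) * (c * crep E.1 ^ b * c⁻¹) * (d : G)⁻¹) := by rw [hd2]; group

theorem mS_pos (S : Finset ℕ) (hS : ∀ q ∈ S, q.Prime) : 0 < mS S G :=
  Finset.prod_pos fun q hq => pow_pos (hS q hq).pos _

theorem mS_insert {σ : Finset ℕ} {r : ℕ} (hr : r.Prime) (hrσ : r ∉ σ) (R : Sylow r G) :
    mS (insert r σ) G = Nat.card R * mS σ G := by
  haveI := Fact.mk hr
  rw [mS, Finset.prod_insert hrσ, Sylow.card_eq_multiplicity]
  rfl

theorem mS_dvd_of_injective {H : Type u} [Group H] [Finite H] (f : H →* G)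
    (hf : Function.Injective f) (S : Finset ℕ) : mS S H ∣ mS S G :=
  Finset.prod_dvd_prod_of_dvd _ _ fun q _ => pow_dvd_pow q
    ((Nat.factorization_le_iff_dvd Nat.card_pos.ne' Nat.card_pos.ne').2
      (Subgroup.card_dvd_of_injective f hf) q)

theorem mem_of_prime_dvd_mS {S : Finset ℕ} (hS : ∀ q ∈ S, q.Prime) {l : ℕ} (hl : l.Prime)
    (h : l ∣ mS S G) : l ∈ S := by
  obtain ⟨q, hq, hd⟩ := (hl.prime.dvd_finsetProd_iff _).1 h
  rwa [(Nat.prime_dvd_prime_iff_eq hl (hS q hq)).1 (hl.dvd_of_dvd_pow hd)]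

theorem mS_lt_of_ne {S : Finset ℕ} (hS : ∀ q ∈ S, q.Prime) {p : ℕ} (hp : ∀ q ∈ S, p ≤ q)
    (H : Subgroup G) (hne : mS S H ≠ mS S G) : p * mS S H ≤ mS S G := by
  obtain ⟨c, hc⟩ := mS_dvd_of_injective H.subtype H.subtype_injective S
  have hc1 : c ≠ 1 := fun h => hne (by rw [hc, h, mul_one])
  obtain ⟨l, hl, hld⟩ := Nat.exists_prime_and_dvd hc1
  have hlS := mem_of_prime_dvd_mS hS hl (hc ▸ hld.mul_left (mS S H) : l ∣ mS S G)
  have hpos : 0 < c := Nat.pos_of_ne_zero fun h => by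
    have := mS_pos (G := G) S hS
    rw [hc, h, mul_zero] at this
    exact lt_irrefl 0 this
  rw [hc, mul_comm p]
  exact Nat.mul_le_mul_left _ ((hp l hlS).trans (Nat.le_of_dvd hpos hld))

theorem kS_singleton_le {r : ℕ} [Fact r.Prime] (R : Sylow r G) :
    kS {r} G ≤ Nat.card (ConjClasses (R : Subgroup G)) := by
  refine Nat.card_le_card_of_surjective (fun D : ConjClasses (R : Subgroup G) =>
    SCls.mk' (crep D).val (primesIn_of_mem_isPGroup Fact.out R.2 (crep D).2)) fun C => ?_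
  obtain ⟨Q, hQ⟩ := (isPGroup_of_primesIn Fact.out (crep_primesIn C)).exists_le_sylow
  obtain ⟨g, rfl⟩ := MulAction.exists_smul_eq G Q R
  have hm : g * crep C.1 * g⁻¹ ∈ ((g • Q : Sylow r G) : Subgroup G) := by
    rw [Sylow.coe_subgroup_smul]
    exact Subgroup.smul_mem_pointwise_smul _ (MulAut.conj g) _ (hQ (mem_zpowers _))
  refine ⟨ConjClasses.mk ⟨_, hm⟩, Subtype.ext ?_⟩
  show ConjClasses.mk (crep (ConjClasses.mk (⟨_, hm⟩ : (g • Q : Sylow r G)))).val = C.1
  obtain ⟨d, hd⟩ := isConj_iff.1 (ConjClasses.mk_eq_mk_iff_isConj.1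
    (mk_crep (ConjClasses.mk (⟨_, hm⟩ : (g • Q : Sylow r G)))).symm)
  conv_rhs => rw [← mk_crep C.1]
  rw [ConjClasses.mk_eq_mk_iff_isConj, isConj_comm, isConj_iff]
  refine ⟨(d : G) * g, ?_⟩
  rw [← hd]
  simp [mul_assoc]

/-- The number of classes is at most the part of the group order. -/
theorem kS_le_mS (S : Finset ℕ) : ∀ (G : Type u) [Group G] [Finite G],
    (∀ q ∈ S, q.Prime) → kS S G ≤ mS S G := by
  induction S using Finset.induction_on with
  | empty => intro G _ _ _; rw [kS_empty, mS, Finset.prod_empty]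
  | @insert r σ hrσ ih =>
    intro G _ _ hS
    have hr := hS r (Finset.mem_insert_self r σ)
    have hσ : ∀ q ∈ σ, q.Prime := fun q hq => hS q (Finset.mem_insert_of_mem hq)
    haveI := Fact.mk hr
    obtain ⟨R⟩ := (inferInstance : Nonempty (Sylow r G))
    haveI := Fintype.ofFinite (SCls {r} G)
    calc kS (insert r σ) G ≤ _ := kS_insert_le hr
      _ ≤ ∑ _C : SCls {r} G, mS σ G := Finset.sum_le_sum fun C _ => (ih _ hσ).trans
          (Nat.le_of_dvd (mS_pos σ hσ) (mS_dvd_of_injective _ (Subgroup.subtype_injective _) σ))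
      _ = kS {r} G * mS σ G := by
          rw [Finset.sum_const, Finset.card_univ, smul_eq_mul, kS, Nat.card_eq_fintype_card]
      _ ≤ Nat.card R * mS σ G := Nat.mul_le_mul_right _ ((kS_singleton_le R).trans
          (Nat.card_le_card_of_surjective _ ConjClasses.mk_surjective))
      _ = _ := (mS_insert hr hrσ R).symm

/-- The bound by the classes of one prime. -/
theorem kS_mul_card_le {S : Finset ℕ} (hS : ∀ q ∈ S, q.Prime) {s : ℕ} (hs : s ∈ S)
    (P : Sylow s G) : kS S G * Nat.card P ≤ kS {s} G * mS S G := by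
  have hσ : ∀ q ∈ S.erase s, q.Prime := fun q hq => hS q (Finset.mem_of_mem_erase hq)
  haveI := Fintype.ofFinite (SCls {s} G)
  have h : kS S G ≤ kS {s} G * mS (S.erase s) G := by
    calc kS S G = kS (insert s (S.erase s)) G := by rw [Finset.insert_erase hs]
      _ ≤ _ := kS_insert_le (hS s hs)
      _ ≤ ∑ _C : SCls {s} G, mS (S.erase s) G := Finset.sum_le_sum fun C _ =>
          (kS_le_mS _ _ hσ).trans (Nat.le_of_dvd (mS_pos _ hσ)
            (mS_dvd_of_injective _ (Subgroup.subtype_injective _) _))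
      _ = _ := by rw [Finset.sum_const, Finset.card_univ, smul_eq_mul, kS, Nat.card_eq_fintype_card]
  calc kS S G * Nat.card P ≤ kS {s} G * mS (S.erase s) G * Nat.card P := Nat.mul_le_mul_right _ h
    _ = kS {s} G * (Nat.card P * mS (S.erase s) G) := by ring
    _ = kS {s} G * mS S G := by
      rw [← mS_insert (hS s hs) (Finset.notMem_erase s S) P, Finset.insert_erase hs]

end CfsgLib.Char.PiClasses
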