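import Cfsg.Agent.Lib.Char.PiClasses.Main

/-!
# Many classes of elements for a set of primes: nilpotent and abelian Hall subgroups
-/

set_option autoImplicit false
set_option linter.unusedSectionVars false
set_option linter.style.haveILetI false

namespace CfsgLib.Char.PiClasses

open Subgroup Cfsg

universe u

variable {G : Type u} [Group G] [Finite G]

/-- The finite set of primes behind a set of primes. -/
theorem exists_finset (π : Set ℕ) (m : ℕ) (hm : m ∣ Nat.card G)
    (hmπ : ∀ q : ℕ, q.Prime → q ∣ m → q ∈ π) (hm' : ∀ q ∈ π, ¬ q ∣ Nat.card G / m) :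
    ∃ S : Finset ℕ, (∀ q, q ∈ S ↔ q ∈ π ∧ q.Prime ∧ q ∣ Nat.card G) ∧ mS S G = m ∧
      kS S G = Nat.card {C : ConjClasses G //
        ∀ q : ℕ, q.Prime → (∃ g : G, ConjClasses.mk g = C ∧ q ∣ orderOf g) → q ∈ π} := by
  classical
  refine ⟨(Nat.card G).primeFactors.filter (fun q => q ∈ π), ?_, ?_, ?_⟩
  · intro q
    simp only [Finset.mem_filter, Nat.mem_primeFactors]
    exact ⟨fun h => ⟨h.2, h.1.1, h.1.2.1⟩, fun h => ⟨⟨h.2.1, h.2.2, Nat.card_pos.ne'⟩, h.1⟩⟩
  · set S := (Nat.card G).primeFactors.filter (fun q => q ∈ π)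
    have hS : ∀ q ∈ S, q.Prime := fun q hq =>
      Nat.prime_of_mem_primeFactors (Finset.mem_filter.1 hq).1
    have hm0 : m ≠ 0 := ne_zero_of_dvd_ne_zero Nat.card_pos.ne' hm
    refine Nat.eq_of_factorization_eq (mS_pos S hS).ne' hm0 fun q => ?_
    by_cases hq : q ∈ S
    · have hqp := hS q hq
      have h1 : (mS S G).factorization q = (Nat.card G).factorization q :=
        le_antisymm ((Nat.factorization_le_iff_dvd (mS_pos S hS).ne' Nat.card_pos.ne').2
          (mS_dvd_card hS) q) ((hqp.pow_dvd_iff_le_factorization (mS_pos S hS).ne').1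
            (Finset.dvd_prod_of_mem (fun q => q ^ (Nat.card G).factorization q) hq))
      have h2 := hm' q (Finset.mem_filter.1 hq).2
      have h3 : (Nat.card G).factorization q =
          m.factorization q + (Nat.card G / m).factorization q := by
        conv_lhs => rw [← Nat.mul_div_cancel' hm]
        rw [Nat.factorization_mul hm0 (Nat.div_pos (Nat.le_of_dvd Nat.card_pos hm)
          (Nat.pos_of_ne_zero hm0)).ne', Finsupp.add_apply]
      rw [h1, h3, Nat.factorization_eq_zero_of_not_dvd h2, add_zero]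
    · by_cases hqp : q.Prime
      · have h1 : ¬ q ∣ m := fun h => hq (Finset.mem_filter.2
          ⟨Nat.mem_primeFactors.2 ⟨hqp, h.trans hm, Nat.card_pos.ne'⟩, hmπ q hqp h⟩)
        have h2 : ¬ q ∣ mS S G := fun h => hq (mem_of_prime_dvd_mS hS hqp h)
        rw [Nat.factorization_eq_zero_of_not_dvd h1, Nat.factorization_eq_zero_of_not_dvd h2]
      · rw [Nat.factorization_eq_zero_of_not_prime _ hqp,
          Nat.factorization_eq_zero_of_not_prime _ hqp]
  · refine Nat.card_congr (Equiv.subtypeEquivRight fun C => ⟨?_, ?_⟩)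
    · rintro h q hq ⟨g, hg, hd⟩
      exact (Finset.mem_filter.1 (h g hg q hq hd)).2
    · intro h g hg q hq hd
      exact Finset.mem_filter.2 ⟨Nat.mem_primeFactors.2
        ⟨hq, hd.trans (orderOf_dvd_natCard g), Nat.card_pos.ne'⟩, h q hq ⟨g, hg, hd⟩⟩

/-- Every Sylow subgroup for a prime of `S` has many classes. -/
theorem card_lt_mul_classes {S : Finset ℕ} (hS : ∀ q ∈ S, q.Prime) {p : ℕ}
    (hm : mS S G < p * kS S G) {s : ℕ} (hs : s ∈ S) [Fact s.Prime] (P : Sylow s G) :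
    Nat.card P < p * Nat.card (ConjClasses (P : Subgroup G)) := by
  refine Nat.lt_of_mul_lt_mul_right (a := mS S G) ?_
  calc Nat.card P * mS S G < Nat.card P * (p * kS S G) :=
        Nat.mul_lt_mul_of_pos_left hm Nat.card_pos
    _ = p * (kS S G * Nat.card P) := by ring
    _ ≤ p * (Nat.card (ConjClasses (P : Subgroup G)) * mS S G) := Nat.mul_le_mul_left _
        ((kS_mul_card_le hS hs P).trans (Nat.mul_le_mul_right _ (kS_singleton_le P)))
    _ = _ := by ring

theorem sylow_commutative_of_lt {S : Finset ℕ} (hS : ∀ q ∈ S, q.Prime) {p : ℕ}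
    (hm : mS S G < p * kS S G) {s : ℕ} (hs : s ∈ S) (hps : p < s) [hsf : Fact s.Prime]
    (P : Sylow s G) : IsMulCommutative (P : Subgroup G) := by
  by_contra hna
  have h1 := pow_three_mul_classes_le P.2 hna
  have h2 := Nat.mul_lt_mul_of_pos_left (card_lt_mul_classes hS hm hs P) (pow_pos hsf.out.pos 3)
  have h3 : p * (s ^ 2 + s - 1) ≤ s ^ 3 := by
    obtain ⟨t, rfl⟩ : ∃ t, s = t + 1 := ⟨s - 1, by omega⟩
    calc p * ((t + 1) ^ 2 + (t + 1) - 1) ≤ t * ((t + 1) ^ 2 + (t + 1) - 1) :=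
          Nat.mul_le_mul_right _ (by omega)
      _ = t * ((t + 1) ^ 2 + t) := by
          rw [show (t + 1) ^ 2 + (t + 1) - 1 = (t + 1) ^ 2 + t by omega]
      _ ≤ _ := by nlinarith
  have h4 : s ^ 3 * (p * Nat.card (ConjClasses (P : Subgroup G))) ≤ s ^ 3 * Nat.card P :=
    calc s ^ 3 * (p * Nat.card (ConjClasses (P : Subgroup G)))
        = p * (s ^ 3 * Nat.card (ConjClasses (P : Subgroup G))) := by ring
      _ ≤ p * (Nat.card P * (s ^ 2 + s - 1)) := Nat.mul_le_mul_left _ h1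
      _ = Nat.card P * (p * (s ^ 2 + s - 1)) := by ring
      _ ≤ Nat.card P * s ^ 3 := Nat.mul_le_mul_left _ h3
      _ = _ := by ring
  exact absurd h4 (not_le.2 h2)

/-- The derived subgroup of a nilpotent Hall subgroup. -/
theorem card_commutator_le {S : Finset ℕ} (hS : ∀ q ∈ S, q.Prime) {H : Subgroup G}
    (hH : IsNH S H) {p B : ℕ} (hB : 1 ≤ B)
    (hab : ∀ s ∈ S, s ≠ p → ∀ _ : Fact s.Prime, ∀ P : Sylow s G,
      IsMulCommutative (P : Subgroup G))
    (hp : p ∈ S → ∀ _ : Fact p.Prime, ∀ P : Sylow p G,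
      Nat.card (commutator (P : Subgroup G)) ≤ B) :
    Nat.card (commutator H) ≤ B := by
  classical
  haveI := hH.1
  have hn : ∀ {q : ℕ} [Fact q.Prime] (Q : Sylow q H), (Q : Subgroup H).Normal := fun {q} _ Q =>
    ((Group.isNilpotent_of_finite_tfae (G := H)).out 0 3 rfl rfl).1 inferInstance q inferInstance Q
  set e := Sylow.directProductOfNormal (G := H) hn
  have hmem : ∀ q : (Nat.card H).primeFactors, (q : ℕ) ∈ S := fun q =>
    mem_of_prime_dvd_mS (G := G) hS (Nat.prime_of_mem_primeFactors q.2)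
      (hH.2 ▸ Nat.dvd_of_mem_primeFactors q.2)
  have hcorr : ∀ (q : (Nat.card H).primeFactors) (Q : Sylow q H), Fact (q : ℕ).Prime →
      ∃ P : Sylow q G, Nonempty ((Q : Subgroup H) ≃* (P : Subgroup G)) := fun q Q hq => by
    obtain ⟨P, hP⟩ := exists_sylow_map (hs := hq) (pow_dvd_of_card hH.2 (hmem q)) Q
    exact ⟨P, ⟨(Subgroup.equivMapOfInjective _ H.subtype H.subtype_injective).trans
      (MulEquiv.subgroupCongr hP.symm)⟩⟩
  let φ := fun (q : (Nat.card H).primeFactors) (Q : Sylow q H) =>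
    (Pi.evalMonoidHom (fun Q : Sylow q H => (Q : Subgroup H)) Q).comp
      ((Pi.evalMonoidHom (fun q : (Nat.card H).primeFactors =>
        ∀ Q : Sylow q H, (Q : Subgroup H)) q).comp e.symm.toMonoidHom)
  have hφ : ∀ a, (∀ q Q, φ q Q a = 1) → a = 1 := fun a h => e.symm.injective (by
    rw [map_one]; funext q Q; exact h q Q)
  have hcomm : ∀ q : (Nat.card H).primeFactors, (q : ℕ) ≠ p → ∀ Q : Sylow q H,
      ∀ a ∈ commutator H, φ q Q a = 1 := fun q hq Q a ha => by
    haveI hqf := Fact.mk (Nat.prime_of_mem_primeFactors q.2)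
    obtain ⟨P, ⟨f⟩⟩ := hcorr q Q hqf
    haveI := hab q (hmem q) hq hqf P
    have hcQ : ∀ x y : (Q : Subgroup H), x * y = y * x := fun x y => f.injective (by
      rw [map_mul, map_mul]; exact mul_comm' _ _)
    have hle : commutator H ≤ (φ q Q).ker := by
      rw [commutator_def, Subgroup.commutator_le]
      intro x _ y _
      rw [MonoidHom.mem_ker, map_commutatorElement, commutatorElement_eq_one_iff_mul_comm]
      exact hcQ _ _
    exact hle ha
  by_cases hpH : p ∈ (Nat.card H).primeFactors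
  · haveI hpf := Fact.mk (Nat.prime_of_mem_primeFactors hpH)
    obtain ⟨Q⟩ := (inferInstance : Nonempty (Sylow ((⟨p, hpH⟩ : (Nat.card H).primeFactors) : ℕ) H))
    obtain ⟨P, ⟨f⟩⟩ := hcorr ⟨p, hpH⟩ Q hpf
    refine le_trans ?_ (hp (hmem ⟨p, hpH⟩) hpf P)
    let g := f.toMonoidHom.comp (φ ⟨p, hpH⟩ Q)
    have hg : ∀ a ∈ commutator H, g a ∈ commutator (P : Subgroup G) := fun a ha => by
      have := (Subgroup.map_commutator (⊤ : Subgroup H) ⊤ g).le ⟨a, ha, rfl⟩
      exact Subgroup.commutator_mono le_top le_top this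
    refine Nat.card_le_card_of_injective (fun a : commutator H => (⟨g a, hg a a.2⟩ :
      commutator (P : Subgroup G))) fun a b hab' => ?_
    have h1 : φ ⟨p, hpH⟩ Q ((a : H) * (b : H)⁻¹) = 1 := by
      rw [map_mul, map_inv, mul_inv_eq_one]
      exact f.injective (congrArg Subtype.val hab')
    refine Subtype.ext (mul_inv_eq_one.1 (hφ _ fun q Q' => ?_))
    by_cases hq : (q : ℕ) = p
    · obtain rfl : q = ⟨p, hpH⟩ := Subtype.ext hq
      haveI := Sylow.unique_of_normal Q (hn Q)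
      rw [Subsingleton.elim Q' Q]
      exact h1
    · exact hcomm q hq Q' _ (mul_mem a.2 (inv_mem b.2))
  · refine le_trans (le_of_eq ?_) hB
    rw [Subgroup.card_eq_one, Subgroup.eq_bot_iff_forall]
    exact fun a ha => hφ a fun q Q => hcomm q (fun h => hpH (h ▸ q.2)) Q a ha

/-- S4104. -/
theorem nilpotent_hall_of_many_classes (π : Set ℕ) (hπ : ∀ q ∈ π, q.Prime) (p : ℕ) (hp : p ∈ π)
    (hmin : ∀ q ∈ π, p ≤ q) (m : ℕ) (hm : m ∣ Nat.card G)
    (hmπ : ∀ q : ℕ, q.Prime → q ∣ m → q ∈ π) (hm' : ∀ q ∈ π, ¬ q ∣ Nat.card G / m)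
    (hmany : m < p * Nat.card {C : ConjClasses G //
      ∀ q : ℕ, q.Prime → (∃ g : G, ConjClasses.mk g = C ∧ q ∣ orderOf g) → q ∈ π}) :
    ∃ H : Subgroup G, Nat.card H = m ∧ Group.IsNilpotent H ∧ Nat.card (commutator H) ≤ p := by
  obtain ⟨S, hS, hmS, hkS⟩ := exists_finset π m hm hmπ hm'
  have hSp : ∀ q ∈ S, q.Prime := fun q hq => ((hS q).1 hq).2.1
  rw [← hkS, ← hmS] at hmany
  obtain ⟨H, hH⟩ := exists_nh (p := p) S G
    (fun q hq => ⟨hSp q hq, hmin q ((hS q).1 hq).1⟩) (hπ p hp).two_le hmany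
  refine ⟨H, hH.2.trans hmS, hH.1, card_commutator_le hSp hH (p := p) (hπ p hp).one_le
    (fun s hs hsp _ P => sylow_commutative_of_lt hSp hmany hs
      (lt_of_le_of_ne (hmin s ((hS s).1 hs).1) (Ne.symm hsp)) P) fun hpS _ P => ?_⟩
  exact derived_le_of_classes P.2 (card_lt_mul_classes hSp hmany hpS P)

/-- S4105. -/
theorem abelian_hall_of_many_classes (π : Set ℕ) (hπ : ∀ q ∈ π, q.Prime) (p : ℕ) (hp : p ∈ π)
    (hmin : ∀ q ∈ π, p ≤ q) (m : ℕ) (hm : m ∣ Nat.card G)
    (hmπ : ∀ q : ℕ, q.Prime → q ∣ m → q ∈ π) (hm' : ∀ q ∈ π, ¬ q ∣ Nat.card G / m)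
    (hmany : m * (p ^ 2 + p - 1) < p ^ 3 * Nat.card {C : ConjClasses G //
      ∀ q : ℕ, q.Prime → (∃ g : G, ConjClasses.mk g = C ∧ q ∣ orderOf g) → q ∈ π}) :
    ∃ H : Subgroup G, Nat.card H = m ∧ IsMulCommutative H := by
  obtain ⟨S, hS, hmS, hkS⟩ := exists_finset π m hm hmπ hm'
  have hSp : ∀ q ∈ S, q.Prime := fun q hq => ((hS q).1 hq).2.1
  rw [← hkS, ← hmS] at hmany
  have hp2 := (hπ p hp).two_le
  have hweak : mS S G < p * kS S G := by
    refine Nat.lt_of_mul_lt_mul_left (a := p ^ 2) ?_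
    calc p ^ 2 * mS S G ≤ mS S G * (p ^ 2 + p - 1) := by
          rw [mul_comm]; exact Nat.mul_le_mul_left _ (by omega)
      _ < p ^ 3 * kS S G := hmany
      _ = _ := by ring
  obtain ⟨H, hH⟩ := exists_nh (p := p) S G
    (fun q hq => ⟨hSp q hq, hmin q ((hS q).1 hq).1⟩) hp2 hweak
  haveI := hH.1
  have hab : ∀ s ∈ S, ∀ _ : Fact s.Prime, ∀ P : Sylow s G,
      IsMulCommutative (P : Subgroup G) := fun s hs _ P => by
    rcases (hmin s ((hS s).1 hs).1).lt_or_eq with hlt | rfl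
    · exact sylow_commutative_of_lt hSp hweak hs hlt P
    · by_contra hna
      have h1 := (Nat.mul_le_mul_left (p ^ 3) (kS_singleton_le P)).trans
        (pow_three_mul_classes_le P.2 hna)
      have h2 := kS_mul_card_le hSp hs P
      refine absurd (Nat.le_of_mul_le_mul_right (?_ : _ * Nat.card P ≤ _ * Nat.card P)
        Nat.card_pos) (not_le.2 hmany)
      calc p ^ 3 * kS S G * Nat.card P = p ^ 3 * (kS S G * Nat.card P) := by ring
        _ ≤ p ^ 3 * (kS {p} G * mS S G) := Nat.mul_le_mul_left _ h2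
        _ = p ^ 3 * kS {p} G * mS S G := by ring
        _ ≤ Nat.card P * (p ^ 2 + p - 1) * mS S G := Nat.mul_le_mul_right _ h1
        _ = _ := by ring
  refine ⟨H, hH.2.trans hmS, ?_⟩
  have hp1 := card_commutator_le (B := 1) hSp hH (p := p) le_rfl
    (fun s hs _ i P => hab s hs i P) fun hpS i P => by
      haveI := hab p hpS i P
      refine le_of_eq (Subgroup.card_eq_one.2 ?_)
      rw [commutator_def, eq_bot_iff, Subgroup.commutator_le]
      intro x _ y _
      rw [Subgroup.mem_bot, commutatorElement_eq_one_iff_mul_comm]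
      exact mul_comm' x y
  refine ⟨⟨fun x y => commutatorElement_eq_one_iff_mul_comm.1 (Subgroup.mem_bot.1 ?_)⟩⟩
  rw [← Subgroup.card_eq_one.1 (le_antisymm hp1 Nat.card_pos)]
  exact Subgroup.commutator_mem_commutator (mem_top x) (mem_top y)

end CfsgLib.Char.PiClasses
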