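import Cfsg.Agent.Lib.Char.PiClasses.Tools

/-!
# Many classes of elements for a set of primes force a nilpotent Hall subgroup
-/

set_option autoImplicit false
set_option linter.unusedSectionVars false
set_option linter.style.haveILetI false
set_option maxHeartbeats 1000000

namespace CfsgLib.Char.PiClasses

open Subgroup Cfsg

universe u

variable {G : Type u} [Group G] [Finite G]

/-- The bound on the classes of a group without nilpotent Hall subgroup, from an abelian or
non-commutative Sylow subgroup without normal complement. -/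
theorem two_mul_classes_le_of_sylow {σ : Finset ℕ} (hσ : ∀ q ∈ σ, q.Prime) {p : ℕ}
    (hp : 2 ≤ p) {s : ℕ} (hs : s ∈ σ) (hps : p ≤ s) [Fact s.Prime] (S : Sylow s G)
    (h : IsMulCommutative (S : Subgroup G) → ¬ HasNormalPComplement s G) :
    2 * p * kS σ G ≤ mS σ G * (p + 1) := by
  have hk := kS_mul_card_le hσ hs S
  have hs2 := (hσ s hs).two_le
  suffices hT : 2 * p * kS {s} G ≤ Nat.card S * (p + 1) by
    refine Nat.le_of_mul_le_mul_right (?_ : _ * Nat.card S ≤ _ * Nat.card S) Nat.card_pos
    calc 2 * p * kS σ G * Nat.card S = 2 * p * (kS σ G * Nat.card S) := by ring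
      _ ≤ 2 * p * (kS {s} G * mS σ G) := Nat.mul_le_mul_left _ hk
      _ = 2 * p * kS {s} G * mS σ G := by ring
      _ ≤ Nat.card S * (p + 1) * mS σ G := Nat.mul_le_mul_right _ hT
      _ = _ := by ring
  by_cases hab : IsMulCommutative (S : Subgroup G)
  · have h1 := two_mul_mul_classes_le S hab (h hab)
    refine Nat.le_of_mul_le_mul_left (?_ : s * _ ≤ s * _) (by omega : 0 < s)
    calc s * (2 * p * kS {s} G) = p * (2 * s * kS {s} G) := by ring
      _ ≤ p * (Nat.card S * (s + 1)) := Nat.mul_le_mul_left _ h1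
      _ = Nat.card S * (p * s + p) := by ring
      _ ≤ Nat.card S * (p * s + s) := Nat.mul_le_mul_left _ (by omega)
      _ = _ := by ring
  · have h1 := (Nat.mul_le_mul_left (s ^ 3) (kS_singleton_le S)).trans
      (pow_three_mul_classes_le S.2 hab)
    refine Nat.le_of_mul_le_mul_left (?_ : s ^ 3 * _ ≤ s ^ 3 * _) (pow_pos (by omega) 3)
    have h2 : 2 * p * (s ^ 2 + s - 1) ≤ (p + 1) * s ^ 3 := by
      rcases (show s = 2 ∨ 3 ≤ s by omega) with rfl | h3
      · norm_num; omega
      · have e : 2 * (s ^ 2 + s - 1) ≤ s ^ 3 := by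
          calc 2 * (s ^ 2 + s - 1) ≤ 2 * (s ^ 2 + s) := by omega
            _ ≤ s ^ 3 := by nlinarith
        calc 2 * p * (s ^ 2 + s - 1) = p * (2 * (s ^ 2 + s - 1)) := by ring
          _ ≤ p * s ^ 3 := Nat.mul_le_mul_left _ e
          _ ≤ _ := Nat.mul_le_mul_right _ (by omega)
    calc s ^ 3 * (2 * p * kS {s} G) = 2 * p * (s ^ 3 * kS {s} G) := by ring
      _ ≤ 2 * p * (Nat.card S * (s ^ 2 + s - 1)) := Nat.mul_le_mul_left _ h1
      _ = Nat.card S * (2 * p * (s ^ 2 + s - 1)) := by ring
      _ ≤ Nat.card S * ((p + 1) * s ^ 3) := Nat.mul_le_mul_left _ h2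
      _ = _ := by ring

/-- With normal complements and abelian Sylow subgroups for all primes of `σ`, a Sylow subgroup for
a further prime that is not acted on nontrivially is centralized by a nilpotent Hall subgroup. -/
theorem exists_nh_centralizing {σ : Finset ℕ} (hσ : ∀ q ∈ σ, q.Prime) {r : ℕ} [Fact r.Prime]
    (hrσ : r ∉ σ) (R : Sylow r G)
    (hcompl : ∀ s ∈ σ, ∀ _ : Fact s.Prime, HasNormalPComplement s G ∧
      ∀ S : Sylow s G, IsMulCommutative (S : Subgroup G))
    (hA : ∀ n ∈ normalizer ((R : Subgroup G) : Set G), ∀ s ∈ σ, IsPrimesIn {s} (orderOf n) →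
      n ∈ centralizer ((R : Subgroup G) : Set G)) :
    ∃ K : Subgroup G, IsNH σ K ∧ (R : Subgroup G) ≤ centralizer (K : Set G) := by
  classical
  have hN : ∀ s : σ, ∃ N : Subgroup G, N.Normal ∧ N.index = (s : ℕ) ^ (Nat.card G).factorization s ∧
      ∀ a b : G, a * b * a⁻¹ * b⁻¹ ∈ N := fun s => by
    haveI := Fact.mk (hσ s s.2)
    obtain ⟨⟨P, N, hNn, hc⟩, hab⟩ := hcompl s s.2 inferInstance
    refine ⟨N, hNn, (hc.symm.index_eq_card).trans (Sylow.card_eq_multiplicity P), fun a b => ?_⟩
    haveI := hab P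
    rw [← QuotientGroup.eq_one_iff]
    apply hc.symm.QuotientMulEquiv.injective
    simp only [QuotientGroup.mk_mul, QuotientGroup.mk_inv, map_mul, map_inv, map_one]
    rw [mul_comm' (hc.symm.QuotientMulEquiv (a : G ⧸ N)) (hc.symm.QuotientMulEquiv (b : G ⧸ N))]
    group
  choose N hNn hNi hNc using hN
  haveI : ∀ s : σ, (N s).Normal := hNn
  set f : G →* (∀ s : σ, G ⧸ N s) := MonoidHom.pi fun s => QuotientGroup.mk' (N s)
  set N₀ := f.ker
  have hN₀ : ∀ x, x ∈ N₀ ↔ ∀ s : σ, x ∈ N s := fun x => by
    simp only [N₀, MonoidHom.mem_ker, funext_iff, f]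
    exact forall_congr' fun s => QuotientGroup.eq_one_iff x
  have hidx : N₀.index ∣ mS σ G := by
    rw [Subgroup.index_ker]
    refine (Subgroup.card_subgroup_dvd_card _).trans (dvd_of_eq ?_)
    rw [Nat.card_pi, mS, ← Finset.prod_coe_sort σ]
    exact Finset.prod_congr rfl fun s _ => by rw [← Subgroup.index_eq_card, hNi]
  have hidx2 : ∀ s : σ, (s : ℕ) ^ (Nat.card G).factorization s ∣ N₀.index := fun s =>
    hNi s ▸ Subgroup.index_dvd_of_le fun x hx => (hN₀ x).1 hx s
  have hRN : (R : Subgroup G) ≤ N₀ := fun x hx => (hN₀ x).2 fun s => by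
    haveI := Fact.mk (hσ s s.2)
    rw [← QuotientGroup.eq_one_iff, ← orderOf_eq_one_iff]
    refine Nat.eq_one_of_dvd_coprimes (a := r ^ (Nat.card G).factorization r)
      (b := (s : ℕ) ^ (Nat.card G).factorization s)
      (Nat.Coprime.pow _ _ ((Nat.coprime_primes Fact.out Fact.out).2 fun e => hrσ (e ▸ s.2))) ?_ ?_
    · refine (orderOf_map_dvd (QuotientGroup.mk' (N s)) x).trans ?_
      rw [← Sylow.card_eq_multiplicity R]
      exact Subgroup.orderOf_dvd_natCard _ hx
    · rw [← hNi, Subgroup.index_eq_card]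
      exact orderOf_dvd_natCard _
  have hfr := Sylow.normalizer_sup_eq_top' R hRN
  set NR := normalizer ((R : Subgroup G) : Set G)
  have hdvd : N₀.index ∣ Nat.card NR := by
    rw [Subgroup.index_eq_card]
    refine Subgroup.card_dvd_of_surjective ((QuotientGroup.mk' N₀).comp NR.subtype) fun q => ?_
    induction q using QuotientGroup.induction_on with
    | H g =>
      obtain ⟨a, ha, b, hb, rfl⟩ := Subgroup.mem_sup_of_normal_right.1 (hfr.symm ▸ mem_top g)
      exact ⟨⟨a, ha⟩, (QuotientGroup.eq.2 (by simpa using hb))⟩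
  set U := centralizer ((R : Subgroup G) : Set G)
  have hU : ∀ s ∈ σ, s ^ (Nat.card G).factorization s ∣ Nat.card U := fun s hs => by
    haveI := Fact.mk (hσ s hs)
    obtain ⟨Q⟩ := (inferInstance : Nonempty (Sylow s NR))
    obtain ⟨P, hP⟩ := exists_sylow_map ((hidx2 ⟨s, hs⟩).trans hdvd) Q
    rw [← Sylow.card_eq_multiplicity P]
    refine Subgroup.card_dvd_of_le fun y hy => hA y ?_ s hs (primesIn_of_mem_isPGroup Fact.out P.2 hy)
    exact (hP ▸ Subgroup.map_subtype_le _ : (P : Subgroup G) ≤ NR) hy
  have hdN : Nat.card (N₀.subgroupOf U) ∣ Nat.card N₀ :=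
    Subgroup.card_dvd_of_injective
      (((U.subtype.comp (N₀.subgroupOf U).subtype).codRestrict N₀ fun x => x.2))
      fun x y hxy => Subtype.ext (Subtype.ext (congrArg (fun z : N₀ => (z : G)) hxy))
  have hcop : (Nat.card (N₀.subgroupOf U)).Coprime (N₀.subgroupOf U).index := by
    refine Nat.coprime_of_dvd fun l hl h1 h2 => ?_
    have hl2 : l ∣ mS σ G := (h2.trans (Subgroup.relIndex_dvd_index_of_normal N₀ U)).trans hidx
    have hlσ := mem_of_prime_dvd_mS (G := G) hσ hl hl2
    have hl1 : l ∣ Nat.card N₀ := h1.trans hdN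
    refine Nat.pow_succ_factorization_not_dvd (n := Nat.card G) Nat.card_pos.ne' hl ?_
    rw [pow_succ, ← Subgroup.index_mul_card N₀]
    refine mul_dvd_mul ?_ hl1
    rw [Subgroup.index_mul_card]
    exact hidx2 ⟨l, hlσ⟩
  obtain ⟨X, hX⟩ := Subgroup.exists_right_complement'_of_coprime hcop
  set K := X.map U.subtype
  have hKd : ∀ s ∈ σ, s ^ (Nat.card G).factorization s ∣ Nat.card K := fun s hs => by
    rw [Subgroup.card_map_of_injective U.subtype_injective, ← hX.symm.index_eq_card]
    have h1 : s ^ (Nat.card G).factorization s ∣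
        Nat.card (N₀.subgroupOf U) * (N₀.subgroupOf U).index := by
      rw [Subgroup.card_mul_index]; exact hU s hs
    refine (Nat.Coprime.dvd_of_dvd_mul_left ?_ h1)
    refine Nat.Coprime.pow_left _ ((hσ s hs).coprime_iff_not_dvd.2 fun hd => ?_)
    refine Nat.pow_succ_factorization_not_dvd (n := Nat.card G) Nat.card_pos.ne' (hσ s hs) ?_
    rw [pow_succ, ← Subgroup.index_mul_card N₀]
    refine mul_dvd_mul ?_ (hd.trans ?_)
    · rw [Subgroup.index_mul_card]; exact hidx2 ⟨s, hs⟩
    · exact hdN
  have hab : IsMulCommutative X := ⟨⟨fun a b => by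
    have h1 : (a * b * a⁻¹ * b⁻¹ : U) ∈ N₀.subgroupOf U ⊓ X :=
      Subgroup.mem_inf.2 ⟨(hN₀ _).2 fun s => hNc s _ _,
        mul_mem (mul_mem (mul_mem a.2 b.2) (inv_mem a.2)) (inv_mem b.2)⟩
    rw [hX.disjoint.eq_bot, Subgroup.mem_bot] at h1
    exact Subtype.ext (by
      rw [Subgroup.coe_mul, Subgroup.coe_mul]
      exact mul_inv_eq_iff_eq_mul.1 (mul_inv_eq_one.1 h1))⟩⟩
  haveI := hab
  letI : CommGroup X := { (inferInstance : Group X) with mul_comm := mul_comm' }
  haveI : Group.IsNilpotent X := CommGroup.isNilpotent (G := X)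
  refine ⟨K, ⟨Group.nilpotent_of_mulEquiv (Subgroup.equivMapOfInjective X U.subtype U.subtype_injective), ?_⟩,
    ?_⟩
  · refine Nat.dvd_antisymm ?_ ?_
    · rw [Subgroup.card_map_of_injective U.subtype_injective, ← hX.symm.index_eq_card]
      exact (Subgroup.relIndex_dvd_index_of_normal N₀ U).trans hidx
    · rw [← mS_eq_of_pow_dvd hσ K hKd]
      exact mS_dvd_card hσ
  · exact Subgroup.le_centralizer_iff.1 (Subgroup.map_subtype_le X)

/-- Many classes of `S`-elements give a nilpotent Hall subgroup for `S`. -/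
theorem exists_nh {p : ℕ} (S : Finset ℕ) : ∀ (G : Type u) [Group G] [Finite G],
    (∀ q ∈ S, q.Prime ∧ p ≤ q) → 2 ≤ p → mS S G < p * kS S G →
    ∃ H : Subgroup G, IsNH S H := by
  classical
  induction S using Finset.induction_on_max with
  | empty =>
    intro G _ _ _ _ _
    exact ⟨⊥, Group.isNilpotent_of_subsingleton,
      by rw [Subgroup.card_bot, mS, Finset.prod_empty]⟩
  | insert r σ hmax ih =>
    intro G _ _ hS hp2 hm
    have hrσ : r ∉ σ := fun h => lt_irrefl r (hmax r h)
    have hr : r.Prime := (hS r (Finset.mem_insert_self r σ)).1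
    haveI := Fact.mk hr
    have hS' : ∀ q ∈ σ, q.Prime ∧ p ≤ q := fun q hq => hS q (Finset.mem_insert_of_mem hq)
    have hσ : ∀ q ∈ σ, q.Prime := fun q hq => (hS' q hq).1
    rcases σ.eq_empty_or_nonempty with hσe | ⟨s₀, hs₀⟩
    · obtain ⟨R⟩ := (inferInstance : Nonempty (Sylow r G))
      refine ⟨R, R.2.isNilpotent, ?_⟩
      rw [mS_insert hr hrσ R, hσe]
      simp [mS]
    have hpr : p < r := (hS' s₀ hs₀).2.trans_lt (hmax s₀ hs₀)
    haveI := Fintype.ofFinite (SCls {r} G)
    set M := mS σ G with hMdef
    have hMpos : 0 < M := mS_pos σ hσ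
    have hT : Fintype.card (SCls {r} G) = kS {r} G := by rw [kS, Nat.card_eq_fintype_card]
    have hsum := kS_insert_le (σ := σ) (G := G) hr
    have hsub : ∀ C : Subgroup G, mS σ C ≤ M := fun C => Nat.le_of_dvd hMpos
      (mS_dvd_of_injective _ C.subtype_injective σ)
    have hkC : ∀ C : Subgroup G, kS σ C ≤ M := fun C => (kS_le_mS σ C hσ).trans (hsub C)
    -- a class with a large count gives a nilpotent Hall subgroup centralized by its representative
    have hlarge : ∀ C : Subgroup G, M < p * kS σ C → mS σ C = M ∧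
        ∃ K : Subgroup G, IsNH σ K ∧ K ≤ C := fun C hC => by
      have e : mS σ C = M := by
        by_contra hne
        have h1 := mS_lt_of_ne hσ (fun q hq => (hS' q hq).2) C hne
        exact absurd ((Nat.mul_le_mul_left p (kS_le_mS σ C hσ)).trans h1) (not_le.2 hC)
      obtain ⟨K, hK⟩ := ih C hS' hp2 (e ▸ hC)
      exact ⟨e, _, isNH_map e hK, Subgroup.map_subtype_le K⟩
    obtain ⟨R₀⟩ := (inferInstance : Nonempty (Sylow r G))
    have hm' : ∀ R : Sylow r G, Nat.card R * M < p * kS (insert r σ) G := fun R => by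
      rw [← mS_insert hr hrσ R]; exact hm
    -- the Sylow subgroups for the largest prime are abelian
    have hab : ∀ R : Sylow r G, IsMulCommutative (R : Subgroup G) := fun R => by
      by_contra hna
      have h1 := (Nat.mul_le_mul_left (r ^ 3) (kS_singleton_le R)).trans
        (pow_three_mul_classes_le R.2 hna)
      have h2 : kS (insert r σ) G ≤ kS {r} G * M := hsum.trans
        ((Finset.sum_le_sum fun C _ => hkC _).trans_eq
          (by rw [Finset.sum_const, Finset.card_univ, hT, smul_eq_mul]))
      have h3 : p * (r ^ 2 + r - 1) ≤ r ^ 3 := by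
        obtain ⟨t, rfl⟩ : ∃ t, r = t + 1 := ⟨r - 1, by omega⟩
        calc p * ((t + 1) ^ 2 + (t + 1) - 1) ≤ t * ((t + 1) ^ 2 + (t + 1) - 1) :=
              Nat.mul_le_mul_right _ (by omega)
          _ = t * ((t + 1) ^ 2 + t) := by rw [show (t + 1) ^ 2 + (t + 1) - 1 = (t + 1) ^ 2 + t by omega]
          _ ≤ _ := by nlinarith
      have h5 : r ^ 3 * (p * kS (insert r σ) G) ≤ r ^ 3 * (Nat.card R * M) :=
        calc r ^ 3 * (p * kS (insert r σ) G) ≤ r ^ 3 * (p * (kS {r} G * M)) :=
              Nat.mul_le_mul_left _ (Nat.mul_le_mul_left _ h2)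
          _ = p * M * (r ^ 3 * kS {r} G) := by ring
          _ ≤ p * M * (Nat.card R * (r ^ 2 + r - 1)) := Nat.mul_le_mul_left _ h1
          _ = Nat.card R * M * (p * (r ^ 2 + r - 1)) := by ring
          _ ≤ Nat.card R * M * r ^ 3 := Nat.mul_le_mul_left _ h3
          _ = _ := by ring
      exact absurd (Nat.le_of_mul_le_mul_left h5 (pow_pos hr.pos 3)) (not_le.2 (hm' R))
    have hTR : kS {r} G ≤ Nat.card R₀ := (kS_singleton_le R₀).trans
      (Nat.card_le_card_of_surjective _ ConjClasses.mk_surjective)
    -- a nilpotent Hall subgroup for `σ`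
    obtain ⟨K₀, hK₀⟩ : ∃ K : Subgroup G, IsNH σ K := by
      by_contra hno
      push Not at hno
      have h1 : ∀ C : SCls {r} G, p * kS σ (centralizer ({crep C.1} : Set G)) ≤ M := fun C =>
        not_lt.1 fun hC => by
          obtain ⟨-, K, hK, -⟩ := hlarge _ hC
          exact hno K hK
      have h2 : p * kS (insert r σ) G ≤ Nat.card R₀ * M := by
        refine (Nat.mul_le_mul_left p hsum).trans ?_
        rw [Finset.mul_sum]
        refine (Finset.sum_le_sum fun C _ => h1 C).trans ?_
        rw [Finset.sum_const, Finset.card_univ, hT, smul_eq_mul]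
        exact Nat.mul_le_mul_right _ hTR
      exact absurd h2 (not_le.2 (hm' R₀))
    by_cases hgood : ∃ (R : Sylow r G) (K : Subgroup G),
        IsNH σ K ∧ (R : Subgroup G) ≤ centralizer (K : Set G)
    · obtain ⟨R, K, hK, hc⟩ := hgood
      exact isNH_insert hσ hrσ hK R hc
    exfalso
    push Not at hgood
    haveI := hK₀.1
    by_cases hcompl : HasNormalPComplement r G
    · obtain ⟨P, N, hNn, hc⟩ := hcompl
      have hidx : N.index = r ^ (Nat.card G).factorization r :=
        hc.symm.index_eq_card.trans (Sylow.card_eq_multiplicity P)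
      have hin : ∀ K : Subgroup G, Nat.card K = Nat.card K₀ → K ≤ N := fun K hK x hx => by
        rw [← QuotientGroup.eq_one_iff, ← orderOf_eq_one_iff]
        refine Nat.eq_one_of_dvd_coprimes (a := Nat.card K₀) (b := N.index) ?_
          (hK ▸ (orderOf_map_dvd (QuotientGroup.mk' N) x).trans (Subgroup.orderOf_dvd_natCard _ hx))
          (Subgroup.index_eq_card N ▸ orderOf_dvd_natCard _)
        rw [hidx, hK₀.2]
        exact Nat.Coprime.pow_right _ (Nat.coprime_comm.1 (hr.coprime_iff_not_dvd.2 fun hd =>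
          hrσ (mem_of_prime_dvd_mS hσ hr hd)))
      have hK₀N := hin K₀ rfl
      have hdvd : N.index ∣ Nat.card (normalizer (K₀ : Set G)) := by
        rw [Subgroup.index_eq_card]
        refine Subgroup.card_dvd_of_surjective
          ((QuotientGroup.mk' N).comp (normalizer (K₀ : Set G)).subtype) fun q => ?_
        induction q using QuotientGroup.induction_on with
        | H g =>
          have hg := hin (K₀.map (MulAut.conj g).toMonoidHom)
            (Subgroup.card_map_of_injective (MulAut.conj g).injective)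
          haveI : Group.IsNilpotent (K₀.subgroupOf N) :=
            Group.nilpotent_of_mulEquiv (Subgroup.subgroupOfEquivOfLe hK₀N).symm
          have hcop : (Nat.card (K₀.subgroupOf N)).Coprime (K₀.subgroupOf N).index := by
            rw [Nat.card_congr (Subgroup.subgroupOfEquivOfLe hK₀N).toEquiv]
            exact (coprime_index_of_card hσ hK₀.2).coprime_dvd_right
              (Subgroup.relIndex_dvd_index_of_le hK₀N)
          have hcard : Nat.card ((K₀.map (MulAut.conj g).toMonoidHom).subgroupOf N) =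
              Nat.card (K₀.subgroupOf N) := by
            rw [Nat.card_congr (Subgroup.subgroupOfEquivOfLe hK₀N).toEquiv,
              Nat.card_congr (Subgroup.subgroupOfEquivOfLe hg).toEquiv,
              Subgroup.card_map_of_injective (MulAut.conj g).injective]
          obtain ⟨y, hy⟩ := CfsgLib.Coprime.exists_conj_le_nilpotent_hall inferInstance hcop _ _
            rfl (fun l hl hd => hcard ▸ hd)
          have hmem : ((y : G)⁻¹ * g) ∈ normalizer (K₀ : Set G) := by
            refine (Subgroup.mem_normalizer_fintype fun x hx => ?_)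
            have h1 := hy (show (⟨g * x * g⁻¹, hg ⟨x, hx, rfl⟩⟩ : N) ∈
              (K₀.map (MulAut.conj g).toMonoidHom).subgroupOf N from ⟨x, hx, rfl⟩)
            rw [CfsgLib.Fusion.mem_conjBy, Subgroup.mem_subgroupOf] at h1
            simpa [mul_assoc] using h1
          refine ⟨⟨_, hmem⟩, QuotientGroup.eq.2 ?_⟩
          have : g⁻¹ * (y : G) * g ∈ N := by
            have := hNn.conj_mem y y.2 g⁻¹
            rwa [inv_inv] at this
          simpa [mul_assoc] using this
      obtain ⟨Q⟩ := (inferInstance : Nonempty (Sylow r (normalizer (K₀ : Set G))))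
      obtain ⟨R, hR⟩ := exists_sylow_map (hidx ▸ hdvd) Q
      obtain ⟨x, hxR, hxc⟩ := SetLike.not_le_iff_exists.1 (hgood R K₀ hK₀)
      obtain ⟨s, hs, P', hxn, hxc'⟩ := exists_sylow_not_centralize hσ hK₀
        ((hR ▸ Subgroup.map_subtype_le _ : (R : Subgroup G) ≤ normalizer (K₀ : Set G)) hxR) hxc
      haveI := Fact.mk (hσ s hs)
      have hsr : s < r := hmax s hs
      obtain ⟨D, h1, h2, h3⟩ := mul_classes_le_of_normalizer hr hsr.ne' P' hxn hxc'
        (primesIn_of_mem_isPGroup hr R.2 hxR)
      have h3' := h3 hsr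
      have hk := kS_mul_card_le (fun q hq => (hS q hq).1) (Finset.mem_insert_of_mem hs) P'
      have hs2 := (hσ s hs).two_le
      have hsT : s * kS {s} G ≤ Nat.card P' := by
        refine Nat.le_of_mul_le_mul_left (?_ : r * s * _ ≤ r * s * _) (mul_pos hr.pos (hσ s hs).pos)
        obtain ⟨a, rfl⟩ : ∃ a, r = s + 1 + a := ⟨r - s - 1, by omega⟩
        rw [show s + 1 + a - 1 = s + a by omega] at h1
        have e1 := Nat.mul_le_mul_left (s * s) h1
        have e2 := Nat.mul_le_mul_left (s + a) h3'
        obtain ⟨b, rfl⟩ : ∃ b, s = b + 1 := ⟨s - 1, by omega⟩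
        have e5 : 0 ≤ Nat.card P' * a * b := Nat.zero_le _
        nlinarith
      have h4 : p * kS (insert r σ) G ≤ mS (insert r σ) G := by
        refine Nat.le_of_mul_le_mul_right (?_ : _ * Nat.card P' ≤ _ * Nat.card P') Nat.card_pos
        calc p * kS (insert r σ) G * Nat.card P'
            = p * (kS (insert r σ) G * Nat.card P') := by ring
          _ ≤ s * (kS {s} G * mS (insert r σ) G) := Nat.mul_le_mul (hS' s hs).2 hk
          _ = s * kS {s} G * mS (insert r σ) G := by ring
          _ ≤ Nat.card P' * mS (insert r σ) G := Nat.mul_le_mul_right _ hsT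
          _ = _ := by ring
      exact absurd h4 (not_le.2 hm)
    -- no normal complement
    set full : SCls {r} G → Prop := fun C =>
      ∃ K : Subgroup G, IsNH σ K ∧ crep C.1 ∈ centralizer (K : Set G)
    set t := (Finset.univ.filter full).card
    obtain ⟨R₁⟩ := (inferInstance : Nonempty (Sylow r (centralizer (K₀ : Set G))))
    have ht : t ≤ Nat.card (R₁ : Subgroup (centralizer (K₀ : Set G))) := by
      have hex : ∀ C : {C // full C}, ∃ y : (R₁ : Subgroup (centralizer (K₀ : Set G))),
          ConjClasses.mk ((y : centralizer (K₀ : Set G)) : G) = C.1.1 := by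
        rintro ⟨C, K, hK, hxK⟩
        obtain ⟨g, hg⟩ := CfsgLib.Coprime.exists_conj_le_nilpotent_hall hK₀.1
          (coprime_index_of_card hσ hK₀.2) _ K rfl (fun l hl hd => by rw [hK₀.2, ← hK.2]; exact hd)
        have hge : CfsgLib.Fusion.conjBy g K₀ = K := (Subgroup.eq_of_le_of_card_ge hg (by
          rw [Subgroup.card_map_of_injective (MulAut.conj g).injective, hK.2, hK₀.2])).symm
        have hgx : g⁻¹ * crep C.1 * g ∈ centralizer (K₀ : Set G) :=
          Subgroup.mem_centralizer_iff.2 fun k hk => by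
            have hc := Subgroup.mem_centralizer_iff.1 hxK (g * k * g⁻¹)
              (hge ▸ CfsgLib.Fusion.conj_mem_conjBy hk)
            calc k * (g⁻¹ * crep C.1 * g) = g⁻¹ * (g * k * g⁻¹ * crep C.1) * g := by group
              _ = g⁻¹ * (crep C.1 * (g * k * g⁻¹)) * g := by rw [hc]
              _ = _ := by group
        have ho : IsPrimesIn {r} (orderOf (⟨_, hgx⟩ : centralizer (K₀ : Set G))) := by
          rw [Subgroup.orderOf_mk, show g⁻¹ * crep C.1 * g = MulAut.conj g⁻¹ (crep C.1) by simp,
            MulEquiv.orderOf_eq]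
          exact crep_primesIn C
        obtain ⟨Q, hQ⟩ := (isPGroup_of_primesIn hr ho).exists_le_sylow
        obtain ⟨c, rfl⟩ := MulAction.exists_smul_eq (centralizer (K₀ : Set G)) Q R₁
        have hm : c * ⟨_, hgx⟩ * c⁻¹ ∈ ((c • Q : Sylow r (centralizer (K₀ : Set G))) :
            Subgroup (centralizer (K₀ : Set G))) := by
          rw [Sylow.coe_subgroup_smul]
          exact Subgroup.smul_mem_pointwise_smul _ (MulAut.conj c) _ (hQ (mem_zpowers _))
        refine ⟨⟨_, hm⟩, ?_⟩
        conv_rhs => rw [← mk_crep C.1]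
        refine ConjClasses.mk_eq_mk_iff_isConj.2 (IsConj.symm (isConj_iff.2 ⟨(c : G) * g⁻¹, ?_⟩))
        simp [mul_assoc]
      choose y hy using hex
      rw [show t = Nat.card {C // full C} by rw [Nat.card_eq_fintype_card, Fintype.card_subtype]]
      exact Nat.card_le_card_of_injective y fun A B hAB =>
        Subtype.ext (Subtype.ext (by rw [← hy A, hAB, hy B]))
    have hR₁ : r * t ≤ Nat.card R₀ := by
      refine le_trans (Nat.mul_le_mul_left r ht) ?_
      obtain ⟨Q, hQ⟩ := (R₁.2.map (centralizer (K₀ : Set G)).subtype).exists_le_sylow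
      have hlt : (R₁ : Subgroup _).map (centralizer (K₀ : Set G)).subtype ≠ Q := fun e =>
        hgood Q K₀ hK₀ (e ▸ Subgroup.map_subtype_le _)
      have hdvd := Subgroup.card_dvd_of_le hQ
      rw [Subgroup.card_map_of_injective (Subgroup.subtype_injective _)] at hdvd
      obtain ⟨a, ha⟩ := Q.2.exists_card_eq
      have hne : Nat.card (R₁ : Subgroup (centralizer (K₀ : Set G))) ≠ Nat.card Q := fun e =>
        hlt (Subgroup.eq_of_le_of_card_ge hQ (by
          rw [Subgroup.card_map_of_injective (Subgroup.subtype_injective _), e]))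
      obtain ⟨j, hj, hj'⟩ := (Nat.dvd_prime_pow hr).1 (hdvd.trans ha.dvd)
      rw [Sylow.card_eq_multiplicity R₀, ← Sylow.card_eq_multiplicity Q, ha, hj']
      have hja : j < a := lt_of_le_of_ne hj fun e => hne (by rw [hj', e, ha])
      rw [← pow_succ']
      exact Nat.pow_le_pow_right hr.pos hja
    have htT : t ≤ kS {r} G := hT ▸ Finset.card_filter_le _ _
    have hT2 := two_mul_mul_classes_le R₀ (hab R₀) hcompl
    have hnon : ∀ C, ¬ full C → p * kS σ (centralizer ({crep C.1} : Set G)) ≤ M := fun C hC =>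
      not_lt.1 fun hlt => by
        obtain ⟨-, K, hK, hKC⟩ := hlarge _ hlt
        exact hC ⟨K, hK, Subgroup.mem_centralizer_iff.2 fun k hk =>
          mem_centralizer_singleton_iff.1 (hKC hk)⟩
    have hcount : ∀ a b : ℕ, (∀ C, full C → a * kS σ (centralizer ({crep C.1} : Set G)) ≤ b * M) →
        p * a * kS (insert r σ) G ≤ (t * (p * b) + (kS {r} G - t) * a) * M := fun a b hab' => by
      refine (Nat.mul_le_mul_left (p * a) hsum).trans ?_
      rw [Finset.mul_sum, ← Finset.sum_filter_add_sum_filter_not _ full, add_mul]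
      refine Nat.add_le_add ?_ ?_
      · refine (Finset.sum_le_sum (g := fun _ => p * b * M) fun C hC => ?_).trans_eq
          (by rw [Finset.sum_const, smul_eq_mul]; ring)
        rw [mul_assoc, mul_assoc]
        exact Nat.mul_le_mul_left p (hab' C (Finset.mem_filter.1 hC).2)
      · refine (Finset.sum_le_sum (g := fun _ => a * M) fun C hC => ?_).trans_eq ?_
        · rw [mul_comm p, mul_assoc]
          exact Nat.mul_le_mul_left a (hnon C (Finset.mem_filter.1 hC).2)
        · rw [Finset.sum_const, smul_eq_mul, show (Finset.univ.filter fun C => ¬ full C).card =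
            kS {r} G - t by
              have := Finset.card_filter_add_card_filter_not (s := Finset.univ) full
              rw [Finset.card_univ, hT] at this; omega]
          ring
    obtain ⟨T', hT'⟩ := Nat.exists_eq_add_of_le htT
    rw [hT', Nat.add_sub_cancel_left] at hcount
    rw [hT'] at hT2
    obtain ⟨q, rfl⟩ : ∃ q, p = q + 1 := ⟨p - 1, by omega⟩
    by_cases hA : ∃ (R : Sylow r G) (n : G) (s : ℕ), s ∈ σ ∧
        n ∈ normalizer ((R : Subgroup G) : Set G) ∧ n ∉ centralizer ((R : Subgroup G) : Set G) ∧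
        IsPrimesIn {s} (orderOf n)
    · obtain ⟨R, n, s, hs, hn, hnc, ho⟩ := hA
      have hsr := hmax s hs
      have hps := (hS' s hs).2
      obtain ⟨D, h1, h2, -⟩ := mul_classes_le_of_normalizer (hσ s hs) hsr.ne R hn hnc ho
      have hRc : Nat.card R = Nat.card R₀ := by
        rw [Sylow.card_eq_multiplicity, Sylow.card_eq_multiplicity]
      rw [hRc, hT'] at h1
      rw [hRc] at h2
      have h := hcount 1 1 fun C _ => by rw [one_mul, one_mul]; exact hkC _
      have key : t * (q + 1) + T' ≤ Nat.card R₀ := by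
        refine Nat.le_of_mul_le_mul_left (?_ : r * s * _ ≤ r * s * _)
          (mul_pos hr.pos (hσ s hs).pos)
        obtain ⟨b, rfl⟩ : ∃ b, s = q + 1 + b := ⟨s - (q + 1), by omega⟩
        obtain ⟨c, rfl⟩ : ∃ c, r = q + 1 + b + 1 + c := ⟨r - (q + 1 + b) - 1, by omega⟩
        rw [show q + 1 + b - 1 = q + b by omega] at h1
        have e1 := Nat.mul_le_mul_left (q + 1 + b + 1 + c) h1
        have e2 := Nat.mul_le_mul_left (q + b) h2
        have e3 := Nat.mul_le_mul_left ((q + 1 + b) * q) hR₁
        have e4 : 0 ≤ Nat.card R₀ * (b * c + q * b + b * b + c * q + b) := Nat.zero_le _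
        nlinarith
      have h' : (q + 1) * kS (insert r σ) G ≤ Nat.card R₀ * M := by
        calc (q + 1) * kS (insert r σ) G = (q + 1) * 1 * kS (insert r σ) G := by ring
          _ ≤ (t * ((q + 1) * 1) + T' * 1) * M := h
          _ ≤ Nat.card R₀ * M := Nat.mul_le_mul_right _ (by linarith)
      exact absurd h' (not_le.2 (hm' R₀))
    · push Not at hA
      have h := hcount (2 * (q + 1)) (q + 1 + 1) fun C _ => by
        by_contra hC
        push Not at hC
        set X := centralizer ({crep C.1} : Set G)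
        obtain ⟨R, hR⟩ := (isPGroup_of_primesIn hr (crep_primesIn C)).exists_le_sylow
        haveI := hab R
        have hRX : (R : Subgroup G) ≤ X := fun y hy => mem_centralizer_singleton_iff.2
          (congrArg Subtype.val
            (mul_comm' (⟨y, hy⟩ : (R : Subgroup G)) ⟨crep C.1, hR (mem_zpowers _)⟩))
        have eM : mS σ X = M := by
          by_contra hne
          have h1 := mS_lt_of_ne hσ (fun l hl => (hS' l hl).2) X hne
          have h2 := Nat.mul_le_mul_left (q + 1) (kS_le_mS σ X hσ)
          nlinarith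
        have hall : ∀ s ∈ σ, ∀ _ : Fact s.Prime, HasNormalPComplement s X ∧
            ∀ S : Sylow s X, IsMulCommutative (S : Subgroup X) := fun s hs _ => by
          by_contra hnot
          obtain ⟨S, hS⟩ : ∃ S : Sylow s X,
              IsMulCommutative (S : Subgroup X) → ¬ HasNormalPComplement s X := by
            by_contra hcon
            push Not at hcon
            exact hnot ⟨(hcon default).2, fun S => (hcon S).1⟩
          have h1 := two_mul_classes_le_of_sylow hσ hp2 hs (hS' s hs).2 S hS
          rw [eM] at h1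
          linarith
        obtain ⟨K, hK, hKc⟩ := exists_nh_centralizing hσ hrσ (R.subtype hRX) hall
          (fun n hn s hs ho => by
            have hn' : (n : G) ∈ normalizer ((R : Subgroup G) : Set G) :=
              Subgroup.mem_normalizer_fintype fun y hy => by
                have := (Subgroup.mem_normalizer_iff.1 hn ⟨y, hRX hy⟩).1
                  (by rw [Sylow.coe_subtype]; exact hy)
                rw [Sylow.coe_subtype] at this
                exact this
            have hc : (n : G) ∈ centralizer ((R : Subgroup G) : Set G) := by_contra fun h =>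
              hA R n s hs hn' h (by rwa [Subgroup.orderOf_coe])
            exact Subgroup.mem_centralizer_iff.2 fun y hy => Subtype.ext
              (Subgroup.mem_centralizer_iff.1 hc y (by rw [Sylow.coe_subtype] at hy; exact hy)))
        refine hgood R _ (isNH_map eM hK) fun y hy => Subgroup.mem_centralizer_iff.2 ?_
        rintro _ ⟨k, hk, rfl⟩
        exact congrArg Subtype.val (Subgroup.mem_centralizer_iff.1
          (hKc (show (⟨y, hRX hy⟩ : X) ∈ (R.subtype hRX : Subgroup X) by
            rw [Sylow.coe_subtype]; exact hy)) k hk)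
      have key : t * ((q + 1) * (q + 1 + 1)) + T' * (2 * (q + 1)) ≤
          2 * (q + 1) * Nat.card R₀ := by
        refine Nat.le_of_mul_le_mul_left (?_ : r * _ ≤ r * _) hr.pos
        obtain ⟨c, rfl⟩ : ∃ c, r = q + 1 + 1 + c := ⟨r - (q + 1) - 1, by omega⟩
        have e1 := Nat.mul_le_mul_left (q + 1) hT2
        have e2 := Nat.mul_le_mul_left ((q + 1) * q) hR₁
        have e4 : 0 ≤ Nat.card R₀ * (q + 1) * c := Nat.zero_le _
        nlinarith
      have h' : (q + 1) * kS (insert r σ) G ≤ Nat.card R₀ * M := by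
        refine Nat.le_of_mul_le_mul_left (?_ : 2 * (q + 1) * _ ≤ 2 * (q + 1) * _)
          (by omega : 0 < 2 * (q + 1))
        calc 2 * (q + 1) * ((q + 1) * kS (insert r σ) G)
            = (q + 1) * (2 * (q + 1)) * kS (insert r σ) G := by ring
          _ ≤ _ := h
          _ ≤ 2 * (q + 1) * Nat.card R₀ * M := Nat.mul_le_mul_right _ key
          _ = _ := by ring
      exact absurd h' (not_le.2 (hm' R₀))

end CfsgLib.Char.PiClasses
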