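import Cfsg.Agent.Lib.Char.PiClasses.Basic
import Cfsg.Agent.Lib.Char.Linear
import Cfsg.Agent.Lib.Char.EigenDegree
import Cfsg.Agent.Lib.Char.Orthogonality
import Cfsg.Agent.Lib.Char.Integrality

/-!
# Fusion bounds for the classes of elements of prime power order
-/

set_option autoImplicit false
set_option linter.unusedSectionVars false
set_option linter.style.haveILetI false

namespace CfsgLib.Char.PiClasses

open Subgroup Cfsg

universe u

/-- A map constant on the orbits of a permutation of prime order. -/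
theorem card_mul_le_of_orbit {Q X : Type*} [Finite Q] {f : Q → X} (hf : Function.Surjective f)
    (φ : Q → Q) {l : ℕ} (hl : l.Prime) (hφ : ∀ q, φ^[l] q = q) (hfφ : ∀ q, f (φ q) = f q) :
    l * Nat.card X ≤ Nat.card Q + (l - 1) * Nat.card {q : Q // φ q = q} := by
  classical
  haveI := Fintype.ofFinite Q
  haveI := Fintype.ofSurjective f hf
  have h1 : Nat.card Q = ∑ x : X, (Finset.univ.filter fun q => f q = x).card := by
    rw [Nat.card_eq_fintype_card, ← Finset.card_univ]
    exact Finset.card_eq_sum_card_fiberwise (fun q _ => Finset.mem_univ (f q))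
  have h2 : Nat.card {q : Q // φ q = q} =
      ∑ x : X, (Finset.univ.filter fun q => φ q = q ∧ f q = x).card := by
    rw [Nat.card_eq_fintype_card, Fintype.card_subtype]
    rw [Finset.card_eq_sum_card_fiberwise (fun q _ => Finset.mem_univ (f q))]
    exact Finset.sum_congr rfl fun x _ => by rw [Finset.filter_filter]
  rw [h1, h2, Nat.card_eq_fintype_card, Finset.mul_sum, ← Finset.sum_add_distrib, mul_comm,
    ← Finset.card_univ, ← smul_eq_mul, ← Finset.sum_const]
  refine Finset.sum_le_sum fun x _ => ?_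
  obtain ⟨q, rfl⟩ := hf x
  by_cases hfx : ∃ q', φ q' = q' ∧ f q' = f q
  · obtain ⟨q', hq', hfq'⟩ := hfx
    have e1 : 1 ≤ (Finset.univ.filter fun a => f a = f q).card :=
      Finset.card_pos.2 ⟨q, by simp⟩
    have e2 : 1 ≤ (Finset.univ.filter fun a => φ a = a ∧ f a = f q).card :=
      Finset.card_pos.2 ⟨q', by simp [hq', hfq']⟩
    have := Nat.mul_le_mul_left (l - 1) e2
    omega
  · push Not at hfx
    have hper : Function.IsPeriodicPt φ l q := hφ q
    have hmp : Function.minimalPeriod φ q = l := by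
      rcases (Nat.dvd_prime hl).1 hper.minimalPeriod_dvd with h | h
      · exact absurd rfl (hfx q (Function.minimalPeriod_eq_one_iff_isFixedPt.1 h))
      · exact h
    have hfit : ∀ i, f (φ^[i] q) = f q := fun i => by
      induction i with
      | zero => rfl
      | succ i ih => rw [Function.iterate_succ_apply', hfφ, ih]
    have e : l ≤ (Finset.univ.filter fun a => f a = f q).card := by
      calc l = ((Finset.range l).image fun i => φ^[i] q).card := by
            rw [Finset.card_image_of_injOn, Finset.card_range]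
            intro i hi j hj hij
            have := Function.iterate_injOn_Iio_minimalPeriod (f := φ) (x := q)
            rw [hmp] at this
            exact this (Finset.mem_range.1 hi) (Finset.mem_range.1 hj) hij
        _ ≤ _ := Finset.card_le_card fun a ha => by
            obtain ⟨i, -, rfl⟩ := Finset.mem_image.1 ha
            simp [hfit i]
    omega

variable {G : Type u} [Group G] [Finite G]

/-- The class of an element of a Sylow subgroup in the group. -/
noncomputable def sylCls {r : ℕ} [Fact r.Prime] (R : Sylow r G)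
    (D : ConjClasses (R : Subgroup G)) : SCls {r} G :=
  ⟨ConjClasses.map (R : Subgroup G).subtype D, fun g hg => by
    obtain ⟨d, rfl⟩ := ConjClasses.mk_surjective D
    exact orderOf_eq_of_mk_eq (h := (d : G)) hg ▸ primesIn_of_mem_isPGroup Fact.out R.2 d.2⟩

theorem sylCls_mk {r : ℕ} [Fact r.Prime] (R : Sylow r G) (d : (R : Subgroup G)) :
    (sylCls R (ConjClasses.mk d)).1 = ConjClasses.mk (d : G) := rfl

theorem sylCls_surjective {r : ℕ} [Fact r.Prime] (R : Sylow r G) :
    Function.Surjective (sylCls R) := fun C => by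
  obtain ⟨Q, hQ⟩ := (isPGroup_of_primesIn Fact.out (crep_primesIn C)).exists_le_sylow
  obtain ⟨g, rfl⟩ := MulAction.exists_smul_eq G Q R
  have hm : g * crep C.1 * g⁻¹ ∈ ((g • Q : Sylow r G) : Subgroup G) := by
    rw [Sylow.coe_subgroup_smul]
    exact Subgroup.smul_mem_pointwise_smul _ (MulAut.conj g) _ (hQ (mem_zpowers _))
  refine ⟨ConjClasses.mk ⟨_, hm⟩, Subtype.ext ?_⟩
  rw [sylCls_mk]
  conv_rhs => rw [← mk_crep C.1]
  exact ConjClasses.mk_eq_mk_iff_isConj.2 (IsConj.symm (isConj_iff.2 ⟨g, rfl⟩))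

/-- An element of the normalizer acting nontrivially gives an automorphism of prime order. -/
theorem exists_autom {R : Subgroup G} {n : G} (hn : n ∈ normalizer (R : Set G))
    (hnc : n ∉ centralizer (R : Set G)) :
    ∃ (l : ℕ) (φ : MulAut R), l.Prime ∧ l ∣ orderOf n ∧ φ ^ l = 1 ∧ φ ≠ 1 ∧
      ∃ k : ℕ, ∀ x : R, ((φ x : R) : G) = n ^ k * x * (n ^ k)⁻¹ := by
  set ψ := Subgroup.normalizerMonoidHom R
  set N : normalizer (R : Set G) := ⟨n, hn⟩
  have happ : ∀ (M : normalizer (R : Set G)) (x : R), ((ψ M x : R) : G) = M * x * (M : G)⁻¹ :=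
    fun M x => rfl
  have hne : ψ N ≠ 1 := fun h => hnc (Subgroup.mem_centralizer_iff.2 fun x hx => by
    have h2 := happ N ⟨x, hx⟩
    rw [h] at h2
    exact (mul_inv_eq_iff_eq_mul.1 h2.symm).symm)
  obtain ⟨l, hl, hld⟩ := Nat.exists_prime_and_dvd (mt orderOf_eq_one_iff.1 hne)
  have hd0 : orderOf (ψ N) ≠ 0 :=
    ne_zero_of_dvd_ne_zero (orderOf_pos N).ne' (orderOf_map_dvd ψ N)
  refine ⟨l, ψ N ^ (orderOf (ψ N) / l), hl, ?_, ?_, ?_, orderOf (ψ N) / l, fun x => ?_⟩
  · have := orderOf_map_dvd ψ N
    rw [show orderOf N = orderOf n from Subgroup.orderOf_mk _ _] at this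
    exact hld.trans this
  · rw [← pow_mul, Nat.div_mul_cancel hld, pow_orderOf_eq_one]
  · refine pow_ne_one_of_lt_orderOf ?_ ?_
    · exact (Nat.div_pos (Nat.le_of_dvd (Nat.pos_of_ne_zero hd0) hld) hl.pos).ne'
    · exact Nat.div_lt_self (Nat.pos_of_ne_zero hd0) hl.one_lt
  · rw [← map_pow, happ, SubgroupClass.coe_pow]

/-- The fusion bound from an automorphism of prime order induced by the normalizer. -/
theorem card_bound_of_autom {r : ℕ} [hr : Fact r.Prime] (R : Sylow r G) {l : ℕ} (hl : l.Prime)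
    (hlr : l ≠ r) (φ : MulAut (R : Subgroup G)) (hφl : φ ^ l = 1) (hφ1 : φ ≠ 1) {c : G}
    (hc : ∀ x : (R : Subgroup G), ((φ x : (R : Subgroup G)) : G) = c * x * c⁻¹) :
    ∃ D : ℕ, l * kS {r} G ≤ Nat.card R + (l - 1) * D ∧ r * D ≤ Nat.card R ∧
      (r < l → r * r * D ≤ Nat.card R) := by
  classical
  haveI := Fact.mk hl
  set Φ : (R : Subgroup G) →* (R : Subgroup G) := φ.toMonoidHom
  set E : Subgroup (R : Subgroup G) := Φ.eqLocus (MonoidHom.id _)
  have hmemE : ∀ x, x ∈ E ↔ φ x = x := fun x => Iff.rfl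
  have hpow : ∀ (i : ℕ) x, (⇑φ)^[i] x = (φ ^ i) x := fun i x => by
    induction i with
    | zero => rfl
    | succ i ih => rw [Function.iterate_succ_apply', ih, pow_succ', MulAut.mul_apply]
  have hfix : Nat.card {D : ConjClasses (R : Subgroup G) // ConjClasses.map Φ D = D} ≤
      Nat.card E := by
    refine Nat.card_le_card_of_surjective (fun e : E => (⟨ConjClasses.mk (e : (R : Subgroup G)),
      show ConjClasses.mk (Φ e) = _ from congrArg ConjClasses.mk ((hmemE _).1 e.2)⟩ :
      {D : ConjClasses (R : Subgroup G) // ConjClasses.map Φ D = D})) ?_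
    rintro ⟨D, hD⟩
    obtain ⟨d, rfl⟩ := ConjClasses.mk_surjective D
    haveI := Fintype.ofFinite {y : (R : Subgroup G) // IsConj d y}
    have hinv : ∀ y, IsConj d y → IsConj d (φ y) := fun y hy =>
      (ConjClasses.mk_eq_mk_iff_isConj.1 hD).symm.trans (Φ.map_isConj hy)
    let σ : Function.End {y : (R : Subgroup G) // IsConj d y} := fun y => ⟨φ y.1, hinv _ y.2⟩
    have hσ : ∀ (i : ℕ) (y : {y : (R : Subgroup G) // IsConj d y}),
        (((σ ^ i : Function.End _) y) : (R : Subgroup G)) = (φ ^ i) y.1 := fun i => by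
      induction i with
      | zero => intro y; rfl
      | succ i ih => intro y; rw [pow_succ', pow_succ']; exact congrArg φ (ih y)
    have hσl : σ ^ l ^ 1 = 1 := by
      funext y
      exact Subtype.ext (by rw [hσ, pow_one, hφl]; rfl)
    have hmod := Equiv.Perm.card_fixedPoints_modEq hσl
    have hdvd : Fintype.card {y : (R : Subgroup G) // IsConj d y} ∣ Nat.card (R : Subgroup G) := by
      rw [← Nat.card_eq_fintype_card]
      have e := Nat.card_congr (MulAction.orbitEquivQuotientStabilizer (ConjAct (R : Subgroup G)) d)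
      have e2 : Nat.card {y : (R : Subgroup G) // IsConj d y} =
          Nat.card (MulAction.orbit (ConjAct (R : Subgroup G)) d) :=
        Nat.card_congr (Equiv.subtypeEquivRight fun y => by
          rw [ConjAct.mem_orbit_conjAct, isConj_comm])
      rw [e2, e]
      exact Subgroup.index_dvd_card _
    by_contra hno
    push Not at hno
    have h0 : Fintype.card (Function.fixedPoints σ) = 0 :=
      Fintype.card_eq_zero_iff.2 ⟨fun ⟨y, hy⟩ => hno ⟨y.1, (hmemE _).2 (congrArg Subtype.val hy)⟩
        (Subtype.ext (ConjClasses.mk_eq_mk_iff_isConj.2 y.2.symm))⟩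
    rw [h0] at hmod
    obtain ⟨a, ha⟩ := R.2.exists_card_eq
    exact hlr ((Nat.prime_dvd_prime_iff_eq hl hr.out).1
      (hl.dvd_of_dvd_pow (ha ▸ (Nat.modEq_zero_iff_dvd.1 hmod).trans hdvd)))
  refine ⟨Nat.card E, ?_, ?_, ?_⟩
  · refine le_trans (card_mul_le_of_orbit (sylCls_surjective R) (ConjClasses.map Φ) hl
      (fun D => ?_) (fun D => ?_)) (Nat.add_le_add
        (Nat.card_le_card_of_surjective _ ConjClasses.mk_surjective)
        (Nat.mul_le_mul_left _ hfix))
    · obtain ⟨d, rfl⟩ := ConjClasses.mk_surjective D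
      have : ∀ i, (ConjClasses.map Φ)^[i] (ConjClasses.mk d) = ConjClasses.mk ((⇑φ)^[i] d) :=
        fun i => by
        induction i with
        | zero => rfl
        | succ i ih => rw [Function.iterate_succ_apply', Function.iterate_succ_apply', ih]; rfl
      rw [this, hpow, hφl]; rfl
    · obtain ⟨d, rfl⟩ := ConjClasses.mk_surjective D
      refine Subtype.ext ?_
      show (sylCls R (ConjClasses.mk (φ d))).1 = _
      rw [sylCls_mk, sylCls_mk, hc]
      exact ConjClasses.mk_eq_mk_iff_isConj.2 (IsConj.symm (isConj_iff.2 ⟨c, rfl⟩))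
  all_goals
    have hE : E ≠ ⊤ := fun h => hφ1 (MulEquiv.ext fun x => (hmemE x).1 (h ▸ mem_top x))
    obtain ⟨a, ha⟩ := R.2.exists_card_eq
    obtain ⟨i, -, hi⟩ := (Nat.dvd_prime_pow hr.out).1 ((Subgroup.index_dvd_card E).trans ha.dvd)
    have hcard : Nat.card E * r ^ i = Nat.card (R : Subgroup G) := hi ▸ Subgroup.card_mul_index E
    have hi0 : i ≠ 0 := fun h0 => hE (Subgroup.index_eq_one.1 (by rw [hi, h0, pow_zero]))
  · calc r * Nat.card E = Nat.card E * r ^ 1 := by rw [pow_one, mul_comm]
      _ ≤ Nat.card E * r ^ i :=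
          Nat.mul_le_mul_left _ (Nat.pow_le_pow_right hr.out.pos (by omega))
      _ = _ := hcard
  · intro hrl
    have hi1 : i ≠ 1 := fun h1 => by
      haveI := Fintype.ofFinite (R : Subgroup G)
      let σ : Function.End (R : Subgroup G) := ⇑φ
      have hσl : σ ^ l ^ 1 = 1 := by
        funext y
        have : ∀ k, (σ ^ k : Function.End _) y = (φ ^ k) y := fun k => by
          induction k with
          | zero => rfl
          | succ k ih => rw [pow_succ', pow_succ']; exact congrArg φ ih
        rw [pow_one, this, hφl]; rfl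
      have hmod := Equiv.Perm.card_fixedPoints_modEq hσl
      have h2 : Fintype.card (Function.fixedPoints σ) = Nat.card E := by
        rw [← Nat.card_eq_fintype_card]
        exact Nat.card_congr (Equiv.subtypeEquivRight fun x => (hmemE x).symm)
      rw [h2, ← Nat.card_eq_fintype_card, ← hcard, h1, pow_one] at hmod
      have h3 : l ∣ Nat.card E * r - Nat.card E :=
        (Nat.modEq_iff_dvd' (Nat.le_mul_of_pos_right _ hr.out.pos)).1 hmod.symm
      rw [← Nat.mul_sub_one] at h3
      rcases hl.dvd_mul.1 h3 with h | h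
      · exact hlr ((Nat.prime_dvd_prime_iff_eq hl hr.out).1 (hl.dvd_of_dvd_pow
          (ha ▸ h.trans (hcard ▸ Dvd.intro _ rfl))))
      · have h3 := hr.out.two_le
        have := Nat.le_of_dvd (by omega) h
        omega
    calc r * r * Nat.card E = Nat.card E * r ^ 2 := by ring
      _ ≤ Nat.card E * r ^ i :=
          Nat.mul_le_mul_left _ (Nat.pow_le_pow_right hr.out.pos (by omega))
      _ = _ := hcard

/-- Class number of a non-commutative group of prime power order. -/
theorem pow_three_mul_classes_le {r : ℕ} [hr : Fact r.Prime] {P : Type u} [Group P] [Finite P]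
    (hP : IsPGroup r P) (hna : ¬ IsMulCommutative P) :
    r ^ 3 * Nat.card (ConjClasses P) ≤ Nat.card P * (r ^ 2 + r - 1) := by
  classical
  haveI := Fintype.ofFinite P
  obtain ⟨a, ha⟩ := hP.exists_card_eq
  set n := Nat.card P
  set Z := Nat.card (center P)
  have hindex : ∀ H : Subgroup P, H ≠ ⊤ → r * Nat.card H ≤ n := fun H hH => by
    obtain ⟨i, -, hi⟩ := (Nat.dvd_prime_pow hr.out).1 ((Subgroup.index_dvd_card H).trans ha.dvd)
    have hi0 : i ≠ 0 := fun h => hH (Subgroup.index_eq_one.1 (by rw [hi, h, pow_zero]))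
    calc r * Nat.card H ≤ H.index * Nat.card H :=
          Nat.mul_le_mul_right _ (hi ▸ Nat.le_self_pow hi0 r)
      _ = n := Subgroup.index_mul_card H
  have hZ : r ^ 2 * Z ≤ n := by
    obtain ⟨i, -, hi⟩ := (Nat.dvd_prime_pow hr.out).1 ((Subgroup.index_dvd_card (center P)).trans ha.dvd)
    have hi2 : 2 ≤ i := by
      by_contra hlt
      haveI : IsCyclic (P ⧸ center P) := by
        have hc : Nat.card (P ⧸ center P) = r ^ i := by rw [← Subgroup.index_eq_card, hi]
        rcases (show i = 0 ∨ i = 1 by omega) with h | h <;> subst h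
        · rw [pow_zero] at hc
          haveI := (Nat.card_eq_one_iff_unique.1 hc).1
          infer_instance
        · rw [pow_one] at hc; exact isCyclic_of_prime_card hc
      exact hna ⟨⟨fun x y => commutative_of_cyclic_center_quotient (QuotientGroup.mk' (center P))
        (by rw [QuotientGroup.ker_mk']) x y⟩⟩
    calc r ^ 2 * Z ≤ (center P).index * Z :=
          Nat.mul_le_mul_right _ (hi ▸ Nat.pow_le_pow_right hr.out.pos hi2)
      _ = n := Subgroup.index_mul_card _
  have hpairs : Nat.card {q : P × P // Commute q.1 q.2} =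
      ∑ x : P, Nat.card (centralizer ({x} : Set P)) := by
    rw [← Nat.card_sigma]
    exact Nat.card_congr
      { toFun := fun q => ⟨q.1.1, q.1.2, mem_centralizer_singleton_iff.2 q.2.symm⟩
        invFun := fun q => ⟨(q.1, q.2.1), (mem_centralizer_singleton_iff.1 q.2.2).symm⟩
        left_inv := fun q => rfl
        right_inv := fun q => rfl }
  have hsum : r * ∑ x : P, Nat.card (centralizer ({x} : Set P)) ≤
      ∑ x : P, if x ∈ center P then r * n else n := by
    rw [Finset.mul_sum]
    refine Finset.sum_le_sum fun x _ => ?_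
    by_cases hx : x ∈ center P
    · rw [if_pos hx]
      exact Nat.mul_le_mul_left _ (Subgroup.card_le_card_group _)
    · rw [if_neg hx]
      exact hindex _ fun h => hx (mem_center_iff.2 fun y =>
        mem_centralizer_singleton_iff.1 (h ▸ mem_top y))
  have hZc : (Finset.univ.filter fun x => x ∈ center P).card = Z := by
    rw [← Fintype.card_subtype]; exact Nat.card_eq_fintype_card.symm
  have hnc : (Finset.univ.filter fun x => x ∉ center P).card + Z = n := by
    rw [← hZc, add_comm, Finset.card_filter_add_card_filter_not, Finset.card_univ]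
    exact Nat.card_eq_fintype_card.symm
  rw [Finset.sum_ite, Finset.sum_const, Finset.sum_const, smul_eq_mul, smul_eq_mul, hZc, ← hpairs,
    card_comm_eq_card_conjClasses_mul_card] at hsum
  have h1 : r * Nat.card (ConjClasses P) + Z ≤ r * Z + n := by
    refine Nat.le_of_mul_le_mul_right (?_ : _ * n ≤ _ * n) Nat.card_pos
    have hnc' : n * ((Finset.univ.filter fun x => x ∉ center P).card + Z) = n * n := by rw [hnc]
    nlinarith
  obtain ⟨s, rfl⟩ : ∃ s, r = s + 1 := ⟨r - 1, by have := hr.out.pos; omega⟩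
  have h2 : (s + 1) * Nat.card (ConjClasses P) ≤ s * Z + n := by nlinarith
  have h3 : (s + 1) ^ 2 + (s + 1) - 1 = (s + 1) ^ 2 + s := by omega
  rw [h3]
  have h4 := Nat.mul_le_mul_left ((s + 1) ^ 2) h2
  have h5 := Nat.mul_le_mul_left s hZ
  nlinarith

/-- A group of prime power order with many classes has a small derived subgroup. -/
theorem derived_le_of_classes {p : ℕ} [hp : Fact p.Prime] {P : Type u} [Group P] [Finite P]
    (hP : IsPGroup p P) (hk : Nat.card P < p * Nat.card (ConjClasses P)) :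
    Nat.card (commutator P) ≤ p := by
  classical
  haveI := Fintype.ofFinite P
  haveI := Fintype.ofFinite (IrrCharacter P)
  obtain ⟨a, ha⟩ := hP.exists_card_eq
  by_contra hd
  obtain ⟨i, -, hi⟩ := (Nat.dvd_prime_pow hp.out).1 ((Subgroup.card_subgroup_dvd_card (commutator P)).trans ha.dvd)
  have hi2 : 2 ≤ i := by
    by_contra h
    exact hd (hi ▸ (Nat.pow_le_pow_right hp.out.pos (show i ≤ 1 by omega)).trans_eq (pow_one p))
  set n := Nat.card P
  set k := Nat.card (ConjClasses P)
  set L := (commutator P).index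
  have hL : p ^ 2 * L ≤ n := by
    calc p ^ 2 * L ≤ Nat.card (commutator P) * L :=
          Nat.mul_le_mul_right _ (hi ▸ Nat.pow_le_pow_right hp.out.pos hi2)
      _ = n := Subgroup.card_mul_index _
  have hlin := CfsgLib.Char.card_linear (G := P)
  have hcast := CfsgLib.Char.sum_degree_sq (G := P)
  have hsum : ∑ χ : IrrCharacter P, charDegree (χ : P → ℂ) ^ 2 = n := by
    simp only [CfsgLib.Char.irr_one_eq_charDegree] at hcast
    exact_mod_cast hcast
  have hbound : ∀ χ : IrrCharacter P,
      (if (χ : P → ℂ) 1 = 1 then 1 else p ^ 2) ≤ charDegree (χ : P → ℂ) ^ 2 := fun χ => by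
    have h1 := CfsgLib.Char.degree_dvd_card χ (CfsgLib.Char.irr_one_eq_charDegree χ)
    rw [show Nat.card P = p ^ a from ha] at h1
    obtain ⟨j, -, hj⟩ := (Nat.dvd_prime_pow hp.out).1 h1
    by_cases hc : (χ : P → ℂ) 1 = 1
    · rw [if_pos hc, hj]
      exact Nat.one_le_pow _ _ (pow_pos hp.out.pos j)
    · rw [if_neg hc, hj]
      refine Nat.pow_le_pow_left (Nat.le_self_pow (fun h0 => hc ?_) p) 2
      rw [CfsgLib.Char.irr_one_eq_charDegree, hj, h0, pow_zero, Nat.cast_one]
  have h1 : ∑ χ : IrrCharacter P, (if (χ : P → ℂ) 1 = 1 then 1 else p ^ 2) ≤ n :=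
    hsum ▸ Finset.sum_le_sum fun χ _ => hbound χ
  have hLc : (Finset.univ.filter fun χ : IrrCharacter P => (χ : P → ℂ) 1 = 1).card = L := by
    rw [← Fintype.card_subtype, ← Nat.card_eq_fintype_card]; exact hlin
  have hkc : L + (Finset.univ.filter fun χ : IrrCharacter P => ¬ (χ : P → ℂ) 1 = 1).card = k := by
    rw [← hLc, Finset.card_filter_add_card_filter_not, Finset.card_univ,
      ← Nat.card_eq_fintype_card]
    exact CfsgLib.Char.card_irr_eq_card_conjClasses
  rw [Finset.sum_ite, Finset.sum_const, Finset.sum_const, smul_eq_mul, smul_eq_mul, mul_one,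
    hLc] at h1
  set M := (Finset.univ.filter fun χ : IrrCharacter P => ¬ (χ : P → ℂ) 1 = 1).card
  have hp2 : 4 ≤ p ^ 2 := Nat.pow_le_pow_left hp.out.two_le 2
  have e1 : p ^ 2 * (p ^ 2 * k) + p ^ 2 * L ≤ p ^ 2 * n + p ^ 2 * (p ^ 2 * L) := by
    rw [← hkc]; nlinarith
  have e2 : p ^ 2 * (p ^ 2 * L) ≤ p ^ 2 * L + (p ^ 2 - 1) * n := by
    obtain ⟨s, hs⟩ : ∃ s, p ^ 2 = s + 1 := ⟨p ^ 2 - 1, by omega⟩
    rw [hs] at hL ⊢
    rw [Nat.add_sub_cancel]
    nlinarith
  have e3 : p ^ 3 * n < p ^ 2 * (p ^ 2 * k) := by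
    calc p ^ 3 * n < p ^ 3 * (p * k) := Nat.mul_lt_mul_of_pos_left hk (pow_pos hp.out.pos 3)
      _ = _ := by ring
  have e4 : 2 * p ^ 2 ≤ p ^ 3 := by
    calc 2 * p ^ 2 ≤ p * p ^ 2 := Nat.mul_le_mul_right _ hp.out.two_le
      _ = p ^ 3 := by ring
  have e5 : (p ^ 2 - 1) * n ≤ p ^ 2 * n := Nat.mul_le_mul_right _ (by omega)
  nlinarith

end CfsgLib.Char.PiClasses
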