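import Cfsg.Agent.Lib.Char.PiClasses.Orbit
import Cfsg.Agent.Lib.Fusion.Hall
import Cfsg.Agent.Lib.Fusion.Transfer
import Cfsg.Agent.Lib.Coprime.MinimalNonNilpotent

/-!
# Hall subgroups and fusion bounds
-/

set_option autoImplicit false
set_option linter.unusedSectionVars false
set_option linter.style.haveILetI false

namespace CfsgLib.Char.PiClasses

open Subgroup Cfsg

universe u

variable {G : Type u} [Group G] [Finite G]

/-- A nilpotent subgroup whose order is the part of the group order for the primes in `S`. -/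
def IsNH (S : Finset ℕ) (H : Subgroup G) : Prop :=
  Group.IsNilpotent H ∧ Nat.card H = mS S G

theorem mS_dvd_card {S : Finset ℕ} (hS : ∀ q ∈ S, q.Prime) : mS S G ∣ Nat.card G := by
  induction S using Finset.induction_on with
  | empty => rw [mS, Finset.prod_empty]; exact one_dvd _
  | @insert q S hq ih =>
    have hS' : ∀ x ∈ S, x.Prime := fun x hx => hS x (Finset.mem_insert_of_mem hx)
    rw [mS, Finset.prod_insert hq]
    refine Nat.Coprime.mul_dvd_of_dvd_of_dvd ?_ (Nat.ordProj_dvd _ _) (ih hS')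
    exact Nat.Coprime.prod_right fun x hx => Nat.Coprime.pow _ _
      ((Nat.coprime_primes (hS q (Finset.mem_insert_self q S)) (hS' x hx)).2
        (fun e => hq (e ▸ hx)))

theorem mS_eq_of_pow_dvd {S : Finset ℕ} (hS : ∀ q ∈ S, q.Prime) (H : Subgroup G)
    (h : ∀ s ∈ S, s ^ (Nat.card G).factorization s ∣ Nat.card H) : mS S H = mS S G :=
  Finset.prod_congr rfl fun s hs => by
    rw [le_antisymm ((Nat.factorization_le_iff_dvd Nat.card_pos.ne' Nat.card_pos.ne').2
      (Subgroup.card_subgroup_dvd_card H) s)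
      (((hS s hs).pow_dvd_iff_le_factorization Nat.card_pos.ne').1 (h s hs))]

theorem pow_dvd_of_mS_eq {S : Finset ℕ} (hS : ∀ q ∈ S, q.Prime) {H : Subgroup G}
    (h : mS S H = mS S G) {s : ℕ} (hs : s ∈ S) :
    s ^ (Nat.card G).factorization s ∣ Nat.card H :=
  dvd_trans (Finset.dvd_prod_of_mem (fun q => q ^ (Nat.card G).factorization q) hs)
    ((dvd_of_eq h.symm).trans (mS_dvd_card hS))

theorem pow_dvd_of_card {S : Finset ℕ} {H : Subgroup G} (h : Nat.card H = mS S G) {s : ℕ}
    (hs : s ∈ S) : s ^ (Nat.card G).factorization s ∣ Nat.card H :=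
  h ▸ Finset.dvd_prod_of_mem _ hs

theorem coprime_index_of_card {S : Finset ℕ} (hS : ∀ q ∈ S, q.Prime) {H : Subgroup G}
    (h : Nat.card H = mS S G) : (Nat.card H).Coprime H.index := by
  refine Nat.coprime_of_dvd fun l hl h1 h2 => ?_
  have hlS := mem_of_prime_dvd_mS (G := G) hS hl (h ▸ h1)
  refine Nat.pow_succ_factorization_not_dvd (n := Nat.card G) Nat.card_pos.ne' hl ?_
  rw [pow_succ, ← Subgroup.card_mul_index H]
  refine mul_dvd_mul ?_ h2
  rw [Subgroup.card_mul_index]
  exact pow_dvd_of_card h hlS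

theorem exists_sylow_map {s : ℕ} [hs : Fact s.Prime] {H : Subgroup G}
    (hd : s ^ (Nat.card G).factorization s ∣ Nat.card H) (Q : Sylow s H) :
    ∃ P : Sylow s G, (P : Subgroup G) = (Q : Subgroup H).map H.subtype := by
  refine ⟨Sylow.ofCard ((Q : Subgroup H).map H.subtype) ?_, rfl⟩
  rw [Subgroup.card_map_of_injective H.subtype_injective, Sylow.card_eq_multiplicity,
    le_antisymm ((Nat.factorization_le_iff_dvd Nat.card_pos.ne' Nat.card_pos.ne').2
      (Subgroup.card_subgroup_dvd_card H) s)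
      ((hs.out.pow_dvd_iff_le_factorization Nat.card_pos.ne').1 hd)]

theorem isNH_map {S : Finset ℕ} {C : Subgroup G} (hC : mS S C = mS S G) {K : Subgroup C}
    (hK : IsNH S K) : IsNH S (K.map C.subtype) := by
  haveI := hK.1
  refine ⟨Group.nilpotent_of_mulEquiv (Subgroup.equivMapOfInjective K C.subtype C.subtype_injective), ?_⟩
  rw [Subgroup.card_map_of_injective C.subtype_injective, hK.2, hC]

/-- Fusion in an abelian Sylow subgroup without normal complement. -/
theorem two_mul_mul_classes_le {r : ℕ} [hr : Fact r.Prime] (R : Sylow r G)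
    (hab : IsMulCommutative (R : Subgroup G)) (hno : ¬ HasNormalPComplement r G) :
    2 * r * kS {r} G ≤ Nat.card R * (r + 1) := by
  haveI := hab
  obtain ⟨n, hn, hnc⟩ := SetLike.not_le_iff_exists.1 fun h =>
    hno (CfsgLib.Fusion.hasNormalPComplement_of_normalizer_le_centralizer R h)
  obtain ⟨a, b, hab', ha, hb⟩ := exists_decomp n hr.out
  have hRC : (R : Subgroup G) ≤ centralizer ((R : Subgroup G) : Set G) := fun x hx =>
    Subgroup.mem_centralizer_iff.2 fun y hy =>
      congrArg Subtype.val (mul_comm' (⟨y, hy⟩ : (R : Subgroup G)) ⟨x, hx⟩)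
  have haR : n ^ a ∈ (R : Subgroup G) := by
    have hP : IsPGroup r (zpowers (n ^ a)) :=
      isPGroup_of_primesIn hr.out (primesIn_singleton_of_dvd hr.out ha)
    have h2 : n ^ a ∈ zpowers (n ^ a) ⊓ normalizer ((R : Subgroup G) : Set G) :=
      ⟨mem_zpowers _, pow_mem hn _⟩
    exact ((hP.inf_normalizer_sylow R).le h2).2
  have hbc : n ^ b ∉ centralizer ((R : Subgroup G) : Set G) := fun h =>
    hnc (hab' ▸ mul_mem (hRC haR) h)
  obtain ⟨l, φ, hl, hld, hφl, hφ1, k, hk⟩ := exists_autom (pow_mem hn b) hbc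
  have hlr : l ≠ r := fun e => by
    have h := hld.trans hb
    rw [e] at h
    exact Nat.not_dvd_ordCompl hr.out (orderOf_pos n).ne' h
  obtain ⟨D, h1, h2, -⟩ := card_bound_of_autom R hl hlr φ hφl hφ1 hk
  refine Nat.le_of_mul_le_mul_left (?_ : l * _ ≤ l * _) hl.pos
  obtain ⟨c, rfl⟩ : ∃ c, l = c + 2 := ⟨l - 2, by have := hl.two_le; omega⟩
  rw [show c + 2 - 1 = c + 1 by omega] at h1
  obtain ⟨d, hd⟩ : ∃ d, r = d + 1 := ⟨r - 1, by have := hr.out.pos; omega⟩
  have h3 := Nat.mul_le_mul_left (2 * r) h1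
  have h4 := Nat.mul_le_mul_left (2 * (c + 1)) h2
  have h5 : 0 ≤ Nat.card R * c * d := Nat.zero_le _
  subst hd
  nlinarith

/-- A Sylow subgroup acted on nontrivially by an element of prime power order for another prime. -/
theorem mul_classes_le_of_normalizer {r s : ℕ} [hr : Fact r.Prime] (hs : s.Prime) (hsr : s ≠ r)
    (R : Sylow r G) {n : G} (hn : n ∈ normalizer ((R : Subgroup G) : Set G))
    (hnc : n ∉ centralizer ((R : Subgroup G) : Set G)) (ho : IsPrimesIn {s} (orderOf n)) :
    ∃ D : ℕ, s * kS {r} G ≤ Nat.card R + (s - 1) * D ∧ r * D ≤ Nat.card R ∧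
      (r < s → r * r * D ≤ Nat.card R) := by
  obtain ⟨l, φ, hl, hld, hφl, hφ1, k, hk⟩ := exists_autom hn hnc
  obtain rfl : l = s := Finset.mem_singleton.1 (ho l hl hld)
  exact card_bound_of_autom R hl hsr φ hφl hφ1 hk

/-- An element normalizing a nilpotent Hall subgroup without centralizing it normalizes a Sylow
subgroup without centralizing it. -/
theorem exists_sylow_not_centralize {S : Finset ℕ} (hS : ∀ q ∈ S, q.Prime) {K : Subgroup G}
    (hK : IsNH S K) {x : G} (hx : x ∈ normalizer (K : Set G))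
    (hxc : x ∉ centralizer (K : Set G)) :
    ∃ s ∈ S, ∃ P : Sylow s G, x ∈ normalizer ((P : Subgroup G) : Set G) ∧
      x ∉ centralizer ((P : Subgroup G) : Set G) := by
  haveI := hK.1
  by_contra hcon
  push Not at hcon
  have key : ∀ s ∈ S, s ^ (Nat.card G).factorization s ∣
      Nat.card (K ⊓ centralizer ({x} : Set G) : Subgroup G) := fun s hs => by
    haveI := Fact.mk (hS s hs)
    obtain ⟨Q⟩ := (inferInstance : Nonempty (Sylow s K))
    have hQn : (Q : Subgroup K).Normal :=
      ((Group.isNilpotent_of_finite_tfae (G := K)).out 0 3 rfl rfl).1 inferInstance s inferInstance Q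
    obtain ⟨P, hP⟩ := exists_sylow_map (pow_dvd_of_card hK.2 hs) Q
    have huniq : ∀ Q' : Sylow s K, Q' = Q := fun Q' =>
      letI := Sylow.unique_of_normal Q hQn
      Subsingleton.elim _ _
    have hconj : ∀ z ∈ normalizer (K : Set G), ∀ y ∈ (P : Subgroup G),
        z * y * z⁻¹ ∈ (P : Subgroup G) := fun z hz y hy => by
      have hyK : y ∈ K := (hP ▸ Subgroup.map_subtype_le _ : (P : Subgroup G) ≤ K) hy
      have hzy : z * y * z⁻¹ ∈ K := (Subgroup.mem_normalizer_iff.1 hz y).1 hyK
      have ho : IsPrimesIn {s} (orderOf (⟨_, hzy⟩ : K)) := by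
        rw [Subgroup.orderOf_mk, show z * y * z⁻¹ = MulAut.conj z y from rfl, MulEquiv.orderOf_eq]
        exact primesIn_of_mem_isPGroup (hS s hs) P.2 hy
      obtain ⟨Q', hQ'⟩ := (isPGroup_of_primesIn (hS s hs) ho).exists_le_sylow
      rw [huniq Q'] at hQ'
      rw [hP]
      exact ⟨_, hQ' (mem_zpowers _), rfl⟩
    have hxP : x ∈ normalizer ((P : Subgroup G) : Set G) :=
      Subgroup.mem_normalizer_iff.2 fun y => ⟨hconj x hx y, fun h => by
        have := hconj x⁻¹ (inv_mem hx) _ h
        simpa [mul_assoc] using this⟩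
    have hle : (P : Subgroup G) ≤ K ⊓ centralizer ({x} : Set G) :=
      le_inf (hP ▸ Subgroup.map_subtype_le _) fun y hy => mem_centralizer_singleton_iff.2
        (Subgroup.mem_centralizer_iff.1 (hcon s hs P hxP) y hy)
    rw [← Sylow.card_eq_multiplicity P]
    exact Subgroup.card_dvd_of_le hle
  have h1 : Nat.card K ∣ Nat.card (K ⊓ centralizer ({x} : Set G) : Subgroup G) := by
    rw [hK.2, ← mS_eq_of_pow_dvd hS _ key]
    exact mS_dvd_card hS
  have h2 := Subgroup.eq_of_le_of_card_ge (inf_le_left : K ⊓ centralizer ({x} : Set G) ≤ K)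
    (Nat.le_of_dvd Nat.card_pos h1)
  exact hxc (Subgroup.mem_centralizer_iff.2 fun y hy =>
    mem_centralizer_singleton_iff.1 ((h2.symm.le hy).2))

/-- A nilpotent Hall subgroup and a commuting Sylow subgroup for a further prime. -/
theorem isNH_insert {σ : Finset ℕ} (hσ : ∀ q ∈ σ, q.Prime) {r : ℕ} [hr : Fact r.Prime] (hrσ : r ∉ σ)
    {K : Subgroup G} (hK : IsNH σ K) (R : Sylow r G)
    (hc : (R : Subgroup G) ≤ centralizer (K : Set G)) :
    ∃ H : Subgroup G, IsNH (insert r σ) H := by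
  haveI := hK.1
  haveI : Group.IsNilpotent (R : Subgroup G) := R.2.isNilpotent
  have hcomm : ∀ (a : K) (b : (R : Subgroup G)), Commute (K.subtype a) ((R : Subgroup G).subtype b) :=
    fun a b => Subgroup.mem_centralizer_iff.1 (hc b.2) a a.2
  set f := MonoidHom.noncommCoprod K.subtype (R : Subgroup G).subtype hcomm
  have hcop : (Nat.card K).Coprime (Nat.card R) := Nat.coprime_of_dvd fun l hl h1 h2 => by
    obtain ⟨a, ha⟩ := R.2.exists_card_eq
    rw [ha] at h2
    exact hrσ ((Nat.prime_dvd_prime_iff_eq hl hr.out).1 (hl.dvd_of_dvd_pow h2) ▸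
      mem_of_prime_dvd_mS hσ hl (hK.2 ▸ h1))
  have hinj : Function.Injective f := by
    rw [← MonoidHom.ker_eq_bot_iff, eq_bot_iff]
    rintro ⟨a, b⟩ hab
    have h1 : (a : G) * (b : G) = 1 := hab
    have h2 : (a : G) ∈ K ⊓ (R : Subgroup G) :=
      Subgroup.mem_inf.2 ⟨a.2, (eq_inv_of_mul_eq_one_left h1).symm ▸ Subgroup.inv_mem _ b.2⟩
    rw [(Subgroup.disjoint_of_coprime_natCard hcop).eq_bot, Subgroup.mem_bot] at h2
    rw [h2, one_mul] at h1
    exact Subgroup.mem_bot.2 (Prod.ext (Subtype.ext h2) (Subtype.ext h1))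
  refine ⟨f.range, Group.nilpotent_of_mulEquiv (MonoidHom.ofInjective hinj), ?_⟩
  rw [← Nat.card_congr (MonoidHom.ofInjective hinj).toEquiv, Nat.card_prod, hK.2,
    mS_insert hr.out hrσ R, mul_comm]

end CfsgLib.Char.PiClasses
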